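import Groth.Agent.Lib.ArithLW25.LogPoints
import Groth.Agent.Lib.LangWeil25.Abscissa
import Mathlib.NumberTheory.LSeries.Deriv
import Mathlib.Analysis.Meromorphic.Order
import Mathlib.Analysis.PSeries

/-!
# Continuation of the zeta function past the abscissa
-/

set_option autoImplicit false

universe u

namespace Groth.Agent.ArithLW25

open AlgebraicGeometry CategoryTheory NumberField Module Complex Groth.Agent DedekindCont25 Zeta25 Filter Topology

/-- The geometric series of the exponent `q = p ^ m`. -/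
noncomputable def geoCoeff (r : ℕ) (pm : ℕ × ℕ) : ℕ → ℝ :=
  fun n => ∑' j : {j : ℕ // (pm.1 ^ pm.2) ^ (j + 1) = n}, (n : ℝ) ^ r / ((j : ℕ) + 1 : ℕ)

theorem geoCoeff_eq_logCoeff (r : ℕ) (pm : ℕ × ℕ) (n : ℕ) :
    geoCoeff r pm n = (n : ℝ) ^ r * logCoeff (fun _ : Unit => pm.1 ^ pm.2) n := by
  rw [geoCoeff, logCoeff, ← tsum_mul_left]
  let E : {j : ℕ // (pm.1 ^ pm.2) ^ (j + 1) = n} ≃ {z : Unit × ℕ // (pm.1 ^ pm.2) ^ (z.2 + 1) = n} :=
    { toFun := fun j => ⟨((), j.1), j.2⟩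
      invFun := fun z => ⟨z.1.2, z.2⟩
      left_inv := fun _ => rfl
      right_inv := fun _ => rfl }
  rw [← E.tsum_eq]
  exact tsum_congr fun j => div_eq_mul_inv _ _

theorem geoCoeff_apply {r : ℕ} {pm : ℕ × ℕ} (hp : pm.1.Prime) (hm : 0 < pm.2) (F : Type) [Field F] [Finite F]
    {p e : ℕ} (hpp : p.Prime) (he : Nat.card F = p ^ e) :
    (e : ℝ) * geoCoeff r pm (Nat.card F) = mterm pm F * (Nat.card F : ℝ) ^ r := by
  classical
  have h2 : 2 ≤ pm.1 ^ pm.2 := le_trans hp.two_le (Nat.le_self_pow hm.ne' _)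
  rw [geoCoeff, mterm]
  split_ifs with h
  · obtain ⟨j, hj⟩ := h
    have hj0 : j ≠ 0 := by
      rintro rfl
      exact (Finite.one_lt_card (α := F)).ne (by simpa using hj)
    obtain ⟨i, rfl⟩ := Nat.exists_eq_succ_of_ne_zero hj0
    rw [tsum_eq_single (⟨i, hj⟩ : {k : ℕ // (pm.1 ^ pm.2) ^ (k + 1) = Nat.card F}) fun k hk =>
      absurd (Subtype.ext (Nat.succ_injective (Nat.pow_right_injective h2 (k.2.trans hj.symm)))) hk]
    have hpq : pm.1 = p := (Nat.prime_dvd_prime_iff_eq hp hpp).1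
      (hp.dvd_of_dvd_pow (he ▸ hj ▸ dvd_pow (dvd_pow_self _ hm.ne') (Nat.succ_ne_zero i)))
    have hei : e = pm.2 * (i + 1) := Nat.pow_right_injective hpp.two_le (by
      show p ^ e = p ^ (pm.2 * (i + 1))
      rw [← he, ← hj, hpq, pow_mul])
    rw [hei]
    push_cast
    field_simp
  · haveI : IsEmpty {k : ℕ // (pm.1 ^ pm.2) ^ (k + 1) = Nat.card F} := ⟨fun k => h ⟨_, k.2⟩⟩
    simp

/-- The remainder of the logarithm after removing the main terms. -/
noncomputable def restCoeff {P : Type*} (N : P → ℕ) (r : ℕ) (Ks : List NFld) (Ms : List (ℕ × ℕ)) (n : ℕ) : ℝ :=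
  logCoeff N n - (Ks.map fun K => logCoeff (primeNorm K.K) n * (n : ℝ) ^ ((r : ℝ) - 1)).sum -
    (Ms.map fun pm => geoCoeff r pm n).sum

theorem list_sum_eq_zero {α : Type*} {L : List α} {g : α → ℝ} (h : ∀ a ∈ L, g a = 0) : (L.map g).sum = 0 :=
  List.sum_eq_zero fun x hx => by
    obtain ⟨a, ha, rfl⟩ := List.mem_map.1 hx
    exact h a ha

theorem list_mul_sum {α : Type*} (L : List α) (g : α → ℝ) (c : ℝ) :
    c * (L.map g).sum = (L.map fun a => c * g a).sum := by
  induction L with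
  | nil => simp
  | cons a l ih => simp [mul_add, ih]

section Scheme

variable {X : Scheme.{u}} (f : X ⟶ Spec (CommRingCat.of (ULift.{u} ℤ))) [LocallyOfFiniteType f] [QuasiCompact f]

include f in
theorem restCoeff_bound {r : ℕ} (hr : topologicalKrullDim X ≤ r) {Ks : List NFld} {Ms : List (ℕ × ℕ)}
    (hmod : HasModels (setCnt (Set.univ : Set X)) r Ks Ms) :
    ∃ C P₀ : ℕ, ∀ n : ℕ, (¬ IsPrimePow n → restCoeff (ptNorm X) r Ks Ms n = 0) ∧
      ∀ p e : ℕ, p.Prime → 1 ≤ e → n = p ^ e →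
        |restCoeff (ptNorm X) r Ks Ms n| ≤
          C * (n : ℝ) ^ ((r : ℝ) - if P₀ ≤ p then (3 / 2 : ℝ) else (1 / 2 : ℝ)) := by
  classical
  obtain ⟨hM, C, p₀, hC⟩ := hmod
  choose c hc using fun K : NFld => exists_nh_le K
  refine ⟨C + (Ks.map c).sum, max p₀ ((Ms.map Prod.fst).sum + 1), fun n => ⟨fun hn => ?_, fun p e hp he hn => ?_⟩⟩
  · rw [restCoeff, logCoeff_eq_zero_of_not_isPrimePow (isPrimePow_ptNorm f) hn, list_sum_eq_zero fun K _ => by
      rw [logCoeff_eq_zero_of_not_isPrimePow (isPrimePow_primeNorm K.K) hn, zero_mul], list_sum_eq_zero fun pm hpm => by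
      rw [geoCoeff]
      haveI : IsEmpty {k : ℕ // (pm.1 ^ pm.2) ^ (k + 1) = n} :=
        ⟨fun k => hn (k.2 ▸ ((hM pm hpm).1.isPrimePow.pow (hM pm hpm).2.ne').pow (Nat.succ_ne_zero _))⟩
      exact tsum_empty]
    simp
  haveI : Fact p.Prime := ⟨hp⟩
  obtain ⟨F, hFf, hFF, hF⟩ : ∃ (F : Type) (_ : Field F) (_ : Finite F), Nat.card F = p ^ e :=
    ⟨GaloisField p e, inferInstance, inferInstance, GaloisField.card p e (by omega)⟩
  subst hn
  rw [← hF]
  set Q : ℝ := (Nat.card F : ℝ) with hQ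
  have hQ1 : 1 ≤ Q := one_le_card F
  have hQpos : 0 < Q := by linarith
  have hch : ringChar F = p := by
    obtain ⟨q, f', hq, hf', hqc, hqF⟩ := exists_card_eq F
    haveI := hqc
    rw [ringChar.eq F q]
    rw [hF] at hqF
    exact ((Nat.prime_dvd_prime_iff_eq hp hq).1 (hp.dvd_of_dvd_pow (hqF ▸ dvd_pow_self p (by omega)))).symm
  set cnt : ℝ := (setCnt (Set.univ : Set X) F : ℝ)
  set SK : ℝ := Nat.cast (Ks.map fun K => nh K F).sum with hSK
  set SM : ℝ := Nat.cast (Ms.map fun pm => mterm pm F).sum with hSM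
  have key : (e : ℝ) * restCoeff (ptNorm X) r Ks Ms (Nat.card F) =
      cnt - SK * Q ^ ((r : ℝ) - 1) - SM * Q ^ r := by
    rw [restCoeff, mul_sub, mul_sub, ← setCnt_eq_logCoeff f hr F hp hF, list_mul_sum, list_mul_sum, hSK, hSM,
      Nat.cast_list_sum, Nat.cast_list_sum, List.map_map, List.map_map]
    congr 1
    · congr 1
      rw [mul_comm, list_mul_sum]
      refine congrArg List.sum (List.map_congr_left fun K _ => ?_)
      simp only [Function.comp_apply, nh]
      rw [← mul_assoc, ← nh_eq_logCoeff K.K F hp hF, mul_comm]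
    · rw [mul_comm, list_mul_sum]
      refine congrArg List.sum (List.map_congr_left fun pm hpm => ?_)
      simp only [Function.comp_apply]
      rw [geoCoeff_apply (hM pm hpm).1 (hM pm hpm).2 F hp hF, mul_comm]
  have habs : |restCoeff (ptNorm X) r Ks Ms (Nat.card F)| ≤ |cnt - SK * Q ^ ((r : ℝ) - 1) - SM * Q ^ r| := by
    rw [← key, abs_mul, Nat.abs_cast]
    exact le_mul_of_one_le_left (abs_nonneg _) (by exact_mod_cast he)
  refine habs.trans ?_
  obtain ⟨h1, h2⟩ := hC F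
  rw [hch] at h1
  have hs : Real.sqrt Q = Q ^ (1 / 2 : ℝ) := Real.sqrt_eq_rpow Q
  have hs0 : 0 < Real.sqrt Q := Real.sqrt_pos.2 hQpos
  split_ifs with hp0
  · have hSM0 : SM = 0 := by
      rw [hSM, Nat.cast_eq_zero]
      refine List.sum_eq_zero fun x hx => ?_
      obtain ⟨pm, hpm, rfl⟩ := List.mem_map.1 hx
      rw [mterm, if_neg]
      rintro ⟨j, hj⟩
      rcases eq_or_ne j 0 with rfl | hj0
      · exact (Finite.one_lt_card (α := F)).ne (by simpa using hj)
      have hpe : pm.1 = p := (Nat.prime_dvd_prime_iff_eq (hM pm hpm).1 hp).1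
        ((hM pm hpm).1.dvd_of_dvd_pow (hF ▸ hj ▸ dvd_pow (dvd_pow_self _ (hM pm hpm).2.ne') hj0))
      have : pm.1 ≤ (Ms.map Prod.fst).sum := List.le_sum_of_mem (List.mem_map.2 ⟨pm, hpm, rfl⟩)
      have := le_max_right p₀ ((Ms.map Prod.fst).sum + 1)
      omega
    rw [hSM0, zero_mul, sub_zero]
    have h1' := h1 ((le_max_left _ _).trans hp0)
    have hX : cnt - SK * Q ^ ((r : ℝ) - 1) = (cnt * Q - SK * Q ^ r) / Q := by
      rw [Real.rpow_sub hQpos, Real.rpow_natCast, Real.rpow_one]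
      field_simp
    rw [hX, abs_div, abs_of_pos hQpos, div_le_iff₀ hQpos, ← mul_le_mul_iff_of_pos_right hs0]
    refine h1'.trans (le_of_eq_of_le ?_ (mul_le_mul_of_nonneg_right (mul_le_mul_of_nonneg_right
      (mul_le_mul_of_nonneg_right (show (C : ℝ) ≤ ((C + (Ks.map c).sum : ℕ) : ℝ) by exact_mod_cast Nat.le_add_right _ _)
      (Real.rpow_nonneg hQpos.le _)) hQpos.le) hs0.le))
    rw [hs, mul_assoc, mul_assoc, ← Real.rpow_one_add' hQpos.le (by norm_num), ← Real.rpow_add hQpos, ← Real.rpow_natCast]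
    congr 2
    ring
  · have hsk : SK ≤ ((Ks.map c).sum : ℕ) := by
      rw [hSK]; exact_mod_cast List.sum_le_sum fun K _ => (hc K F).2
    have hSK0 : 0 ≤ SK * Q ^ ((r : ℝ) - 1) := mul_nonneg (Nat.cast_nonneg _) (Real.rpow_nonneg hQpos.le _)
    have e1 : |cnt - SM * Q ^ r| ≤ C * Q ^ ((r : ℝ) - 1 / 2) := by
      rw [← mul_le_mul_iff_of_pos_right hs0]
      refine h2.trans (le_of_eq ?_)
      rw [hs, mul_assoc, ← Real.rpow_add hQpos, sub_add_cancel, Real.rpow_natCast]
    have e2 : SK * Q ^ ((r : ℝ) - 1) ≤ ((Ks.map c).sum : ℕ) * Q ^ ((r : ℝ) - 1 / 2) :=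
      mul_le_mul hsk (Real.rpow_le_rpow_of_exponent_le hQ1 (by linarith)) (Real.rpow_nonneg hQpos.le _) (Nat.cast_nonneg _)
    push_cast at e2 ⊢
    rw [abs_le] at e1 ⊢
    constructor <;> nlinarith

include f in
theorem summable_restCoeff {r : ℕ} (hr : topologicalKrullDim X ≤ r) {Ks : List NFld} {Ms : List (ℕ × ℕ)}
    (hmod : HasModels (setCnt (Set.univ : Set X)) r Ks Ms) {σ : ℝ} (hσ : (r : ℝ) - 1 / 2 < σ) :
    Summable fun n : ℕ => |restCoeff (ptNorm X) r Ks Ms n| * (n : ℝ) ^ (-σ) := by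
  obtain ⟨C, P₀, h⟩ := restCoeff_bound f hr hmod
  let G : ℕ → ℝ := fun n => (C : ℝ) * (n : ℝ) ^ ((r : ℝ) - 3 / 2 - σ) +
    ∑ p ∈ (Finset.range P₀).filter Nat.Prime, (Set.range (p ^ ·)).indicator
      (fun n : ℕ => (C : ℝ) * (n : ℝ) ^ ((r : ℝ) - 1 / 2 - σ)) n
  have hG : Summable G := by
    refine ((Real.summable_nat_rpow.mpr (by linarith)).mul_left _).add (summable_sum fun p hp => ?_)
    have hp2 := (Finset.mem_filter.mp hp).2
    rw [← Function.Injective.summable_iff (Nat.pow_right_injective hp2.two_le)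
      (fun x hx => Set.indicator_of_notMem hx _)]
    have hlt : (p : ℝ) ^ ((r : ℝ) - 1 / 2 - σ) < 1 :=
      Real.rpow_lt_one_of_one_lt_of_neg (by exact_mod_cast hp2.one_lt) (by linarith)
    refine ((summable_geometric_of_lt_one (Real.rpow_nonneg (Nat.cast_nonneg _) _) hlt).mul_left (C : ℝ)).congr
      fun m => ?_
    simp only [Function.comp_apply]
    rw [Set.indicator_of_mem (by exact ⟨m, rfl⟩), Nat.cast_pow, ← Real.rpow_natCast, ← Real.rpow_natCast,
      ← Real.rpow_mul (Nat.cast_nonneg _), ← Real.rpow_mul (Nat.cast_nonneg _), mul_comm ((r : ℝ) - 1 / 2 - σ)]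
  have hG0 : ∀ n q, 0 ≤ (Set.range (q ^ · : ℕ → ℕ)).indicator (fun n : ℕ => (C : ℝ) * (n : ℝ) ^ ((r : ℝ) - 1 / 2 - σ)) n :=
    fun n q => Set.indicator_nonneg (fun _ _ => mul_nonneg (Nat.cast_nonneg _) (Real.rpow_nonneg (Nat.cast_nonneg _) _)) _
  refine hG.of_nonneg_of_le (fun n => mul_nonneg (abs_nonneg _) (Real.rpow_nonneg (Nat.cast_nonneg _) _)) fun n => ?_
  obtain ⟨h0, hb⟩ := h n
  by_cases hn : IsPrimePow n
  swap
  · rw [h0 hn, abs_zero, zero_mul]
    exact add_nonneg (mul_nonneg (Nat.cast_nonneg _) (Real.rpow_nonneg (Nat.cast_nonneg _) _))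
      (Finset.sum_nonneg fun q _ => hG0 n q)
  obtain ⟨p, m, hp, hm, rfl⟩ := hn
  have hb' := hb p m hp.nat_prime hm rfl
  have hpos : (0 : ℝ) < ((p ^ m : ℕ) : ℝ) := Nat.cast_pos.mpr (pow_pos hp.nat_prime.pos _)
  refine (mul_le_mul_of_nonneg_right hb' (Real.rpow_nonneg hpos.le _)).trans ?_
  rw [mul_assoc, ← Real.rpow_add hpos]
  by_cases hpp : P₀ ≤ p
  · rw [if_pos hpp, ← sub_eq_add_neg]
    exact le_add_of_nonneg_right (Finset.sum_nonneg fun q _ => hG0 _ q)
  · rw [if_neg hpp, ← sub_eq_add_neg]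
    have hmem : p ∈ (Finset.range P₀).filter Nat.Prime :=
      Finset.mem_filter.mpr ⟨Finset.mem_range.mpr (by omega), hp.nat_prime⟩
    refine le_add_of_nonneg_of_le (mul_nonneg (Nat.cast_nonneg _) (Real.rpow_nonneg hpos.le _)) ?_
    refine le_trans ?_ (Finset.single_le_sum (fun q _ => hG0 _ q) hmem)
    rw [Set.indicator_of_mem (by exact ⟨m, rfl⟩)]

include f in
theorem differentiableOn_rest {r : ℕ} (hr : topologicalKrullDim X ≤ r) {Ks : List NFld} {Ms : List (ℕ × ℕ)}
    (hmod : HasModels (setCnt (Set.univ : Set X)) r Ks Ms) :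
    DifferentiableOn ℂ (LSeries fun n => (restCoeff (ptNorm X) r Ks Ms n : ℂ)) {s : ℂ | (r : ℝ) - 1 / 2 < s.re} ∧
      ∀ s : ℂ, (r : ℝ) - 1 / 2 < s.re → LSeriesSummable (fun n => (restCoeff (ptNorm X) r Ks Ms n : ℂ)) s := by
  have hsum : ∀ s : ℂ, (r : ℝ) - 1 / 2 < s.re → LSeriesSummable (fun n => (restCoeff (ptNorm X) r Ks Ms n : ℂ)) s := by
    intro s hs
    refine Summable.of_norm ((summable_restCoeff f hr hmod hs).of_nonneg_of_le (fun _ => norm_nonneg _) fun n => ?_)
    rw [LSeries.norm_term_eq]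
    split_ifs with hn
    · positivity
    · rw [Complex.norm_real, Real.norm_eq_abs, Real.rpow_neg (Nat.cast_nonneg _), div_eq_mul_inv]
  refine ⟨(LSeries_differentiableOn _).mono fun s (hs : (r : ℝ) - 1 / 2 < s.re) => ?_, hsum⟩
  refine lt_of_le_of_lt (LSeries.abscissaOfAbsConv_le_of_forall_lt_LSeriesSummable (x := (r : ℝ) - 1 / 2) fun y hy =>
    hsum _ (by simpa using hy)) ?_
  exact EReal.coe_lt_coe_iff.2 hs

include f in
/-- There is a main term. -/
theorem models_ne_nil {r : ℕ} (hr : topologicalKrullDim X = r) {Ks : List NFld} {Ms : List (ℕ × ℕ)}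
    (hmod : HasModels (setCnt (Set.univ : Set X)) r Ks Ms) : 0 < Ks.length + Ms.length := by
  classical
  by_contra h
  obtain ⟨rfl, rfl⟩ : Ks = [] ∧ Ms = [] :=
    ⟨List.eq_nil_of_length_eq_zero (by omega), List.eq_nil_of_length_eq_zero (by omega)⟩
  let N := ptNorm X
  have h2 : ∀ x, 2 ≤ N x := fun x => card_residueField_two_le f x.2
  have hrest : ∀ n, restCoeff N r [] [] n = logCoeff N n := fun n => by simp [restCoeff]
  -- the summability over the pairs
  have key : ∀ σ : ℝ, (r : ℝ) - 1 / 2 < σ →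
      Summable fun z : Zeta25.Closed X × ℕ => ((z.2 + 1 : ℕ) : ℝ)⁻¹ * ((N z.1 ^ (z.2 + 1) : ℕ) : ℝ) ^ (-σ) := by
    intro σ hσ
    obtain ⟨c, p₁, hfin⟩ := exists_card_closed_le f hr.le
    haveI : ∀ n, Finite {z : Zeta25.Closed X × ℕ // N z.1 ^ (z.2 + 1) = n} := fun n =>
      finite_logFiber h2 (fun n => (hfin n).1) n
    rw [← (Equiv.sigmaFiberEquiv fun z : Zeta25.Closed X × ℕ => N z.1 ^ (z.2 + 1)).summable_iff]
    refine (summable_sigma_of_nonneg fun z => mul_nonneg (by positivity) (Real.rpow_nonneg (Nat.cast_nonneg _) _)).mpr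
      ⟨fun n => Summable.of_finite, (summable_restCoeff f hr.le hmod hσ).congr fun n => ?_⟩
    rw [hrest, abs_of_nonneg (logCoeff_nonneg N n), logCoeff, ← tsum_mul_right]
    refine tsum_congr fun z => ?_
    simp only [Function.comp_apply, Equiv.sigmaFiberEquiv_apply]
    rw [z.2]
  -- a closed point
  haveI : CompactSpace X := (HasAffineProperty.iff_of_isAffine (P := @QuasiCompact) (f := f)).mp inferInstance
  haveI : Nonempty X := by
    by_contra hne
    rw [not_nonempty_iff] at hne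
    haveI : IsEmpty (TopologicalSpace.IrreducibleCloseds X) :=
      ⟨fun W => hne.elim W.isIrreducible.nonempty.some⟩
    have h1 : topologicalKrullDim X = ⊥ := Order.krullDim_eq_bot
    rw [h1] at hr
    exact WithBot.bot_ne_coe hr
  obtain ⟨x, -, hx⟩ := (isClosed_univ (X := X)).exists_closed_singleton Set.univ_nonempty
  rcases Nat.eq_zero_or_pos r with rfl | hr0
  · have h1 := (key 0 (by norm_num)).comp_injective (i := fun j : ℕ => ((⟨x, hx⟩ : Zeta25.Closed X), j))
      fun a b e => congrArg Prod.snd e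
    refine Real.not_summable_natCast_inv ((summable_nat_add_iff 1).1 (h1.congr fun j => ?_))
    simp
  · have hr' : (1 : ℝ) ≤ r := by exact_mod_cast hr0
    set σ : ℝ := (r : ℝ) - 1 / 4
    have h1 := (key σ (by simp only [σ]; linarith)).comp_injective (i := fun x : Zeta25.Closed X => (x, 0))
      fun a b e => congrArg Prod.fst e
    have hP : Summable fun x : Zeta25.Closed X => (N x : ℝ) ^ (-σ) := h1.congr fun x => by simp
    have hσ0 : 0 < σ := by simp only [σ]; linarith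
    have hLS : LSeriesSummable (Zeta.arithCoeff X) (σ : ℂ) := by
      rw [arithCoeff_eq f]
      exact lSeriesSummable_cycleCoeff h2 hσ0 hP (by simp)
    have h3 := LSeriesSummable.abscissaOfAbsConv_le hLS
    rw [LangWeil25.abscissa_eq f hr, Complex.ofReal_re, EReal.coe_le_coe_iff] at h3
    simp only [σ] at h3
    linarith

end Scheme

theorem hasSum_list {α ι : Type*} (L : List α) (g : α → ι → ℂ) (S : α → ℂ) (h : ∀ a ∈ L, HasSum (g a) (S a)) :
    HasSum (fun i => (L.map fun a => g a i).sum) (L.map S).sum := by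
  induction L with
  | nil => simpa using hasSum_zero
  | cons a l ih => simpa using (h a (List.mem_cons_self ..)).add (ih fun b hb => h b (List.mem_cons_of_mem _ hb))

theorem exp_list_sum {α : Type*} (L : List α) (S : α → ℂ) : cexp (L.map S).sum = (L.map fun a => cexp (S a)).prod := by
  induction L with
  | nil => simp
  | cons a l ih => simp [Complex.exp_add, ih]

/-- The geometric factor. -/
theorem geoCoeff_series {r : ℕ} {pm : ℕ × ℕ} (hp : pm.1.Prime) (hm : 0 < pm.2) {s : ℂ} (hs : (r : ℝ) < s.re) :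
    ∃ S : ℂ, HasSum (LSeries.term (fun n => (geoCoeff r pm n : ℂ)) s) S ∧
      cexp S = (1 - ((pm.1 ^ pm.2 : ℕ) : ℂ) ^ ((r : ℂ) - s))⁻¹ := by
  set q := pm.1 ^ pm.2 with hq
  have h2 : ∀ _ : Unit, 2 ≤ q := fun _ => le_trans hp.two_le (Nat.le_self_pow hm.ne' _)
  have hq0 : q ≠ 0 := by have := h2 (); omega
  have hs' : (0 : ℝ) < (s - r).re := by simp; linarith
  have hsum : Summable fun _ : Unit => ((q : ℕ) : ℝ) ^ (-(s - r).re) := Summable.of_finite
  have h := hasSum_logCoeff h2 hs' hsum le_rfl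
  refine ⟨_, h.congr_fun fun n => ?_, ?_⟩
  · rcases eq_or_ne n 0 with rfl | hn
    · simp
    rw [LSeries.term_of_ne_zero hn, LSeries.term_of_ne_zero hn, geoCoeff_eq_logCoeff,
      cpow_sub _ _ (Nat.cast_ne_zero.2 hn), cpow_natCast]
    push_cast
    field_simp
    rfl
  · rw [(h.tsum_eq.symm.trans (tsum_congr fun n => rfl) : _ = LSeries (fun n => (logCoeff (fun _ : Unit => q) n : ℂ)) (s - r))]
    rw [← lSeries_eq_exp_logCoeff h2 hs' hsum le_rfl, LSeries, (hasSum_term h2 hs' hsum le_rfl).tsum_eq]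
    let E : ℕ ≃ (Unit →₀ ℕ) :=
      { toFun := fun j => Finsupp.single () j
        invFun := fun α => α ()
        left_inv := fun j => by simp
        right_inv := fun α => by ext; simp }
    rw [← E.tsum_eq, ← tsum_geometric_of_norm_lt_one (ξ := ((q : ℕ) : ℂ) ^ ((r : ℂ) - s))]
    · refine tsum_congr fun j => ?_
      show ((nm (fun _ : Unit => q) (Finsupp.single () j) : ℕ) : ℂ) ^ (-(s - r)) = _
      rw [nm, Finsupp.prod_single_index (h := fun _ m => q ^ m) (pow_zero _), Nat.cast_pow, ← cpow_nat_mul, neg_sub, ← natCast_cpow_natCast_mul]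
    · rw [norm_natCast_cpow_of_pos (Nat.pos_of_ne_zero hq0)]
      refine Real.rpow_lt_one_of_one_lt_of_neg (by exact_mod_cast h2 ()) ?_
      simp; linarith

theorem logK_series (K : NFld) (r : ℕ) {s : ℂ} (hs : (r : ℝ) < s.re) :
    ∃ S : ℂ, HasSum (LSeries.term (fun n => ((logCoeff (primeNorm K.K) n * (n : ℝ) ^ ((r : ℝ) - 1) : ℝ) : ℂ)) s) S ∧
      cexp S = dedekindZeta K.K (s - ((r : ℂ) - 1)) := by
  have hs' : 1 < (s - ((r : ℂ) - 1)).re := by simp; linarith
  have h := hasSum_logCoeff (N := primeNorm K.K) (fun v => (isPrimePow_primeNorm K.K v).two_le)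
    (by linarith : (0 : ℝ) < (s - ((r : ℂ) - 1)).re) (summable_primeNorm K.K hs') le_rfl
  refine ⟨_, h.congr_fun fun n => ?_, ?_⟩
  · rcases eq_or_ne n 0 with rfl | hn
    · simp
    rw [LSeries.term_of_ne_zero hn, LSeries.term_of_ne_zero hn, cpow_sub _ _ (Nat.cast_ne_zero.2 hn)]
    push_cast
    rw [ofReal_cpow (Nat.cast_nonneg n)]
    push_cast
    field_simp
  · rw [dedekindZeta_eq_exp K.K hs', LSeries, h.tsum_eq]

/-- The local factor of a positive characteristic component. -/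
noncomputable def geoFactor (r : ℕ) (pm : ℕ × ℕ) : ℂ → ℂ :=
  fun s => (1 - ((pm.1 ^ pm.2 : ℕ) : ℂ) ^ ((r : ℂ) - s))⁻¹

theorem geoFactor_spec {r : ℕ} {pm : ℕ × ℕ} (hp : pm.1.Prime) (hm : 0 < pm.2) :
    (∀ s : ℂ, MeromorphicAt (geoFactor r pm) s) ∧ meromorphicOrderAt (geoFactor r pm) (r : ℂ) = (-1 : ℤ) := by
  set q := pm.1 ^ pm.2 with hq
  have h2 : 2 ≤ q := le_trans hp.two_le (Nat.le_self_pow hm.ne' _)
  have hq0 : (q : ℂ) ≠ 0 := by simp; omega
  set g : ℂ → ℂ := fun s => 1 - ((q : ℕ) : ℂ) ^ ((r : ℂ) - s) with hg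
  have hd : ∀ s, HasDerivAt g ((q : ℂ) ^ ((r : ℂ) - s) * Complex.log q) s := fun s => by
    have h := ((hasDerivAt_id s).const_sub (r : ℂ)).const_cpow (c := (q : ℂ)) (Or.inl hq0)
    have h' := h.const_sub 1
    simpa [g] using h'
  have hga : ∀ s, AnalyticAt ℂ g s := fun s =>
    (DifferentiableOn.analyticOnNhd (fun z _ => (hd z).differentiableAt.differentiableWithinAt) isOpen_univ) s trivial
  refine ⟨fun s => (hga s).meromorphicAt.inv, ?_⟩
  show meromorphicOrderAt (g⁻¹) _ = _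
  have h1 : analyticOrderAt (fun z => g z - g (r : ℂ)) (r : ℂ) = 1 := by
    refine (hga _).analyticOrderAt_sub_eq_one_of_deriv_ne_zero ?_
    rw [(hd _).deriv, sub_self, cpow_zero, one_mul, ← natCast_log, ofReal_ne_zero]
    exact (Real.log_pos (by exact_mod_cast h2)).ne'
  have h0 : g (r : ℂ) = 0 := by simp [g]
  simp only [h0, sub_zero] at h1
  rw [meromorphicOrderAt_inv, (hga _).meromorphicOrderAt_eq, h1]
  rfl

theorem order_list_prod {L : List (ℂ → ℂ)} {x : ℂ}
    (h : ∀ g ∈ L, MeromorphicAt g x ∧ meromorphicOrderAt g x = (-1 : ℤ)) :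
    MeromorphicAt L.prod x ∧ meromorphicOrderAt L.prod x = ((-(L.length : ℤ)) : ℤ) := by
  induction L with
  | nil =>
    refine ⟨MeromorphicAt.const 1 x, ?_⟩
    rw [List.prod_nil, show (1 : ℂ → ℂ) = fun _ => (1 : ℂ) from rfl, meromorphicOrderAt_const]
    simp
  | cons g l ih =>
    obtain ⟨h1, h2⟩ := h g (List.mem_cons_self ..)
    obtain ⟨h3, h4⟩ := ih fun g' hg' => h g' (List.mem_cons_of_mem _ hg')
    rw [List.prod_cons]
    refine ⟨h1.mul h3, ?_⟩
    rw [meromorphicOrderAt_mul h1 h3, h2, h4, ← WithTop.coe_add, List.length_cons]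
    refine congrArg (fun z : ℤ => (z : WithTop ℤ)) ?_
    omega

theorem exists_eps (Ks : List NFld) : ∃ ε : ℝ, 0 < ε ∧ ε ≤ 1 / 2 ∧ ∀ K ∈ Ks, ε ≤ 1 / (finrank ℚ K.K : ℝ) := by
  induction Ks with
  | nil => exact ⟨1 / 2, by norm_num, le_rfl, fun K h => absurd h List.not_mem_nil⟩
  | cons K l ih =>
    obtain ⟨ε, h1, h2, h3⟩ := ih
    have hd : (0 : ℝ) < finrank ℚ K.K := Nat.cast_pos.2 finrank_pos
    refine ⟨min ε (1 / (finrank ℚ K.K : ℝ)), lt_min h1 (by positivity), (min_le_left _ _).trans h2, fun K' hK' => ?_⟩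
    rcases List.mem_cons.1 hK' with rfl | h
    · exact min_le_right _ _
    · exact (min_le_left _ _).trans (h3 K' h)

theorem list_sum_div {α : Type*} (L : List α) (g : α → ℂ) (c : ℂ) :
    (L.map fun a => g a / c).sum = (L.map g).sum / c := by
  induction L with
  | nil => simp
  | cons a l ih => simp [add_div, ih]

theorem ofReal_list_sum {α : Type*} (L : List α) (g : α → ℝ) :
    (((L.map g).sum : ℝ) : ℂ) = (L.map fun a => (g a : ℂ)).sum := by
  induction L with
  | nil => simp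
  | cons a l ih => simp [ih]

theorem list_prod_apply (L : List (ℂ → ℂ)) (x : ℂ) : L.prod x = (L.map fun g => g x).prod := by
  induction L with
  | nil => simp
  | cons a l ih => simp [ih]

/-- **Continuation past the abscissa, from the main terms.** -/
theorem exists_continuation {X : Scheme.{u}} (f : X ⟶ Spec (CommRingCat.of (ULift.{u} ℤ))) [LocallyOfFiniteType f]
    [QuasiCompact f] {r : ℕ} (hr : topologicalKrullDim X = r) {Ks : List NFld} {Ms : List (ℕ × ℕ)}
    (hmod : HasModels (setCnt (Set.univ : Set X)) r Ks Ms) :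
    ∃ ε : ℝ, 0 < ε ∧ ∃ g : ℂ → ℂ, MeromorphicOn g {s : ℂ | (r : ℝ) - ε < s.re} ∧
      (∀ s : ℂ, (r : ℝ) < s.re → g s = LSeries (Zeta.arithCoeff X) s) ∧
      meromorphicOrderAt g (r : ℂ) = ((-((Ks.length + Ms.length : ℕ) : ℤ)) : ℤ) ∧
      (Ms = [] → ∀ s : ℂ, (r : ℝ) - ε < s.re → s ≠ (r : ℂ) → 0 ≤ meromorphicOrderAt g s) := by
  classical
  obtain ⟨hD, hDs⟩ := differentiableOn_rest f hr.le hmod
  obtain ⟨hM, -⟩ := id hmod
  choose hz1 hz2 G hG hGeq hG1 using fun K : NFld => exists_dedekindZeta_continuation K.K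
  obtain ⟨ε, hε, hε2, hεK⟩ := exists_eps Ks
  set U := {s : ℂ | (r : ℝ) - ε < s.re} with hU
  have hUo : IsOpen U := isOpen_lt continuous_const continuous_re
  let kf : NFld → ℂ → ℂ := fun K s => G K (s - ((r : ℂ) - 1)) / (s - r)
  let D : ℂ → ℂ := fun s => cexp (LSeries (fun n => (restCoeff (ptNorm X) r Ks Ms n : ℂ)) s)
  let L : List (ℂ → ℂ) := Ks.map kf ++ Ms.map (geoFactor r)
  have hDa : ∀ s ∈ U, AnalyticAt ℂ D s := fun s hs => by
    refine (DifferentiableOn.analyticOnNhd (hD.mono fun z (hz : (r : ℝ) - ε < z.re) => ?_) hUo s hs).cexp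
    show (r : ℝ) - 1 / 2 < z.re
    linarith
  have hKn : ∀ K ∈ Ks, ∀ s ∈ U, AnalyticAt ℂ (fun z => G K (z - ((r : ℂ) - 1))) s := fun K hK s hs => by
    refine ((DifferentiableOn.analyticOnNhd (hG K) (isOpen_lt continuous_const continuous_re)) _ ?_).comp
      (analyticAt_id.sub analyticAt_const)
    show 1 - 1 / (finrank ℚ K.K : ℝ) < (s - ((r : ℂ) - 1)).re
    have := hεK K hK
    rw [one_div] at this
    have hs' : (r : ℝ) - ε < s.re := hs
    simp; linarith
  have hKm : ∀ K ∈ Ks, ∀ s ∈ U, MeromorphicAt (kf K) s := fun K hK s hs =>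
    (hKn K hK s hs).meromorphicAt.div (analyticAt_id.sub analyticAt_const).meromorphicAt
  have hrU : (r : ℂ) ∈ U := by show (r : ℝ) - ε < _; simp [hε]
  have hLr : ∀ g ∈ L, MeromorphicAt g (r : ℂ) ∧ meromorphicOrderAt g (r : ℂ) = (-1 : ℤ) := fun g hg => by
    rcases List.mem_append.1 hg with h | h
    · obtain ⟨K, hK, rfl⟩ := List.mem_map.1 h
      refine ⟨hKm K hK _ hrU, ?_⟩
      rw [meromorphicOrderAt_eq_int_iff (hKm K hK _ hrU)]
      refine ⟨fun z => G K (z - ((r : ℂ) - 1)), hKn K hK _ hrU, by simpa using hG1 K, ?_⟩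
      refine Eventually.of_forall fun z => ?_
      simp [kf, div_eq_mul_inv, mul_comm]
    · obtain ⟨pm, hpm, rfl⟩ := List.mem_map.1 h
      exact ⟨(geoFactor_spec (hM pm hpm).1 (hM pm hpm).2).1 _, (geoFactor_spec (hM pm hpm).1 (hM pm hpm).2).2⟩
  refine ⟨ε, hε, D * L.prod, fun s hs => ?_, fun s hs => ?_, ?_, fun hMs s hs hne => ?_⟩
  · refine (hDa s hs).meromorphicAt.mul ?_
    refine List.prod_induction (fun g : ℂ → ℂ => MeromorphicAt g s) (fun a b ha hb => ha.mul hb) (MeromorphicAt.const 1 s)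
      fun g hg => ?_
    rcases List.mem_append.1 hg with h | h
    · obtain ⟨K, hK, rfl⟩ := List.mem_map.1 h
      exact hKm K hK s hs
    · obtain ⟨pm, hpm, rfl⟩ := List.mem_map.1 h
      exact (geoFactor_spec (hM pm hpm).1 (hM pm hpm).2).1 s
  · have hsr : (r : ℝ) - 1 / 2 < s.re := by linarith
    have hσ : (0 : ℝ) < s.re := lt_of_le_of_lt (Nat.cast_nonneg r) hs
    have h2 : ∀ x, 2 ≤ ptNorm X x := fun x => card_residueField_two_le f x.2
    rw [Pi.mul_apply, arithCoeff_eq f, lSeries_eq_exp_logCoeff h2 hσ (summable_ptNorm f hr.le hs) le_rfl]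
    choose! SK hSK hSK' using fun K (_ : K ∈ Ks) => logK_series K r hs
    choose! SM hSM hSM' using fun pm (hpm : pm ∈ Ms) => geoCoeff_series (r := r) (hM pm hpm).1 (hM pm hpm).2 hs
    have hres := (hDs s hsr).hasSum
    have htot := (hres.add (hasSum_list Ks _ SK hSK)).add (hasSum_list Ms _ SM hSM)
    have e : LSeries (fun n => (logCoeff (ptNorm X) n : ℂ)) s =
        LSeries (fun n => (restCoeff (ptNorm X) r Ks Ms n : ℂ)) s + (Ks.map SK).sum + (Ms.map SM).sum := by
      refine (htot.congr_fun fun n => ?_).tsum_eq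
      rcases eq_or_ne n 0 with rfl | hn
      · simp
      simp only [LSeries.term_of_ne_zero hn]
      rw [list_sum_div, list_sum_div, ← add_div, ← add_div, restCoeff]
      push_cast
      congr 1
      simp only [Function.comp_def, ofReal_list_sum]
      push_cast
      ring
    rw [e, Complex.exp_add, Complex.exp_add, exp_list_sum, exp_list_sum, mul_assoc]
    simp only [D, L, list_prod_apply, List.map_append, List.prod_append, List.map_map, Function.comp_def]
    congr 1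
    congr 1
    · refine congrArg List.prod (List.map_congr_left fun K hK => ?_)
      rw [hSK' K hK]
      have h1 : 1 < (s - ((r : ℂ) - 1)).re := by simp; linarith
      simp only [kf, hGeq K _ h1]
      have hne : s - r ≠ 0 := sub_ne_zero.2 fun h => by rw [h] at hs; simp at hs
      rw [show s - ((r : ℂ) - 1) - 1 = s - r by ring, mul_div_cancel_left₀ _ hne]
    · refine congrArg List.prod (List.map_congr_left fun pm hpm => ?_)
      rw [hSM' pm hpm]
      rfl
  · rw [meromorphicOrderAt_mul (hDa _ hrU).meromorphicAt (order_list_prod hLr).1, (order_list_prod hLr).2,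
      (hDa _ hrU).meromorphicOrderAt_eq, (hDa _ hrU).analyticOrderAt_eq_zero.2 (Complex.exp_ne_zero _)]
    simp [L]
  · subst hMs
    refine AnalyticAt.meromorphicOrderAt_nonneg ?_
    refine (hDa s hs).mul ?_
    refine List.prod_induction (fun g : ℂ → ℂ => AnalyticAt ℂ g s) (fun a b ha hb => ha.mul hb) analyticAt_const
      fun g hg => ?_
    rcases List.mem_append.1 hg with h | h
    · obtain ⟨K, hK, rfl⟩ := List.mem_map.1 h
      exact (hKn K hK s hs).div (analyticAt_id.sub analyticAt_const) (sub_ne_zero.2 hne)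
    · simp at h

end Groth.Agent.ArithLW25
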