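import Groth.Agent.Lib.ArithLW25.RecursionZ
import Groth.Agent.Lib.LangWeil25.DomainPts

/-!
# Main terms of the point counts of finitely generated domains
-/

set_option autoImplicit false

namespace Groth.Agent.ArithLW25

open NumberField Groth.Agent

/-- A number field, bundled. -/
structure NFld : Type 1 where
  K : Type
  [field : Field K]
  [nf : NumberField K]

attribute [instance] NFld.field NFld.nf

/-- A count attached to each finite field. -/
abbrev Cnt : Type 1 := ∀ (F : Type) [Field F] [Finite F], ℕ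

/-- The points of the ring of integers. -/
noncomputable def nh (K : NFld) : Cnt := fun F _ _ => Nat.card (𝓞 K.K →+* F)

/-- The geometric components in characteristic `p` with field of constants of degree `m`. -/
noncomputable def mterm (pm : ℕ × ℕ) : Cnt := fun F _ _ =>
  haveI := Classical.dec (∃ j : ℕ, (pm.1 ^ pm.2) ^ j = Nat.card F)
  if ∃ j : ℕ, (pm.1 ^ pm.2) ^ j = Nat.card F then pm.2 else 0

theorem mterm_le (pm : ℕ × ℕ) (F : Type) [Field F] [Finite F] : mterm pm F ≤ pm.2 := by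
  unfold mterm; split_ifs <;> simp

theorem exists_nh_le (K : NFld) : ∃ c : ℕ, ∀ (F : Type) [Field F] [Finite F],
    Finite (𝓞 K.K →+* F) ∧ nh K F ≤ c := by
  classical
  let b := Module.Free.chooseBasis ℤ (𝓞 K.K)
  refine ⟨∏ i, (minpoly ℤ (b i)).natDegree, fun F _ _ => ?_⟩
  letI := Fintype.ofFinite F
  let Φ : (𝓞 K.K →+* F) → ∀ i, {x : F // x ∈ ((minpoly ℤ (b i)).map (Int.castRingHom F)).roots.toFinset} :=
    fun φ i => ⟨φ (b i), by
      have hm : (minpoly ℤ (b i)).Monic := minpoly.monic (Algebra.IsIntegral.isIntegral (b i))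
      rw [Multiset.mem_toFinset, Polynomial.mem_roots (hm.map _).ne_zero, Polynomial.IsRoot, Polynomial.eval_map,
        ← RingHom.ext_int (φ.comp (algebraMap ℤ (𝓞 K.K))) (Int.castRingHom F), ← Polynomial.hom_eval₂,
        ← Polynomial.aeval_def, minpoly.aeval, map_zero]⟩
  have hΦ : Function.Injective Φ := fun φ ψ h => by
    have e : φ.toAddMonoidHom.toIntLinearMap = ψ.toAddMonoidHom.toIntLinearMap :=
      b.ext fun i => congrArg Subtype.val (congrFun h i)
    exact RingHom.ext fun x => LinearMap.congr_fun e x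
  refine ⟨Finite.of_injective Φ hΦ, le_trans (Nat.card_le_card_of_injective Φ hΦ) ?_⟩
  rw [Nat.card_pi]
  refine Finset.prod_le_prod (fun i _ => Nat.zero_le _) fun i _ => ?_
  rw [Nat.card_eq_fintype_card, Fintype.card_coe]
  exact (Multiset.toFinset_card_le _).trans ((Polynomial.card_roots' _).trans Polynomial.natDegree_map_le)

/-- The main terms of a count. -/
def HasModels (cnt : Cnt) (r : ℕ) (Ks : List NFld) (Ms : List (ℕ × ℕ)) : Prop :=
  (∀ pm ∈ Ms, pm.1.Prime ∧ 0 < pm.2) ∧ ∃ C p₀ : ℕ, ∀ (F : Type) [Field F] [Finite F],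
    (p₀ ≤ ringChar F →
      |(cnt F : ℝ) * Nat.card F - ((Ks.map fun K => nh K F).sum : ℕ) * (Nat.card F : ℝ) ^ r| *
        Real.sqrt (Nat.card F) ≤ C * (Nat.card F : ℝ) ^ r) ∧
    |(cnt F : ℝ) - ((Ms.map fun pm => mterm pm F).sum : ℕ) * (Nat.card F : ℝ) ^ r| * Real.sqrt (Nat.card F) ≤
      C * (Nat.card F : ℝ) ^ r

/-- A count with no main term. -/
def Negligible (cnt : Cnt) (r : ℕ) : Prop := HasModels cnt r [] []

theorem one_le_card (F : Type) [Finite F] [Nonempty F] : (1 : ℝ) ≤ Nat.card F := by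
  exact_mod_cast Nat.card_pos

theorem sqrt_card_le (F : Type) [Finite F] [Nonempty F] : Real.sqrt (Nat.card F) ≤ Nat.card F :=
  Real.sqrt_le_iff.2 ⟨Nat.cast_nonneg _, by nlinarith [one_le_card F]⟩

theorem negligible_zero (r : ℕ) : Negligible (fun _ _ _ => 0) r :=
  ⟨fun pm h => absurd h List.not_mem_nil, 0, 0, fun F _ _ => ⟨fun _ => by simp, by simp⟩⟩

/-- A bound of the order of dimension `r - 1`. -/
theorem negligible_of_le {cnt : Cnt} {r : ℕ} {C p₀ : ℕ} (h : ∀ (F : Type) [Field F] [Finite F],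
    cnt F * (if p₀ ≤ ringChar F then Nat.card F else 1) ≤ C * Nat.card F ^ r) : Negligible cnt (r + 1) := by
  refine ⟨fun pm h => absurd h List.not_mem_nil, C, p₀, fun F _ _ => ?_⟩
  have h0 : (0 : ℝ) ≤ cnt F := Nat.cast_nonneg _
  have hs := sqrt_card_le F
  have hs0 := Real.sqrt_nonneg (Nat.card F : ℝ)
  have hQ1 := one_le_card F
  have h1 : (cnt F : ℝ) * (if p₀ ≤ ringChar F then (Nat.card F : ℝ) else 1) ≤ C * (Nat.card F : ℝ) ^ r := by
    have := h F
    split_ifs at this ⊢ <;> exact_mod_cast this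
  simp only [List.map_nil, List.sum_nil, Nat.cast_zero, zero_mul, sub_zero]
  refine ⟨fun hp => ?_, ?_⟩
  · rw [if_pos hp] at h1
    rw [abs_of_nonneg (by positivity), pow_succ, ← mul_assoc]
    exact mul_le_mul h1 hs hs0 (by positivity)
  · rw [abs_of_nonneg h0, pow_succ, ← mul_assoc]
    refine mul_le_mul (le_trans ?_ h1) hs hs0 (by positivity)
    split_ifs
    · exact le_mul_of_one_le_right h0 hQ1
    · rw [mul_one]

theorem HasModels.of_diff {cnt g h : Cnt} {r : ℕ} {Ks : List NFld} {Ms : List (ℕ × ℕ)}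
    (hg : HasModels g r Ks Ms) (hh : Negligible h r)
    (hd : ∀ (F : Type) [Field F] [Finite F], cnt F ≤ g F + h F ∧ g F ≤ cnt F + h F) :
    HasModels cnt r Ks Ms := by
  obtain ⟨hM, C₁, p₁, hC₁⟩ := hg
  obtain ⟨-, C₂, p₂, hC₂⟩ := hh
  refine ⟨hM, C₁ + C₂, max p₁ p₂, fun F _ _ => ?_⟩
  obtain ⟨h1, h1'⟩ := hC₁ F
  obtain ⟨h2, h2'⟩ := hC₂ F
  simp only [List.map_nil, List.sum_nil, Nat.cast_zero, zero_mul, sub_zero] at h2 h2'
  obtain ⟨hd1, hd2⟩ := hd F
  have hd' : |(cnt F : ℝ) - g F| ≤ h F := by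
    rw [abs_le]
    constructor
    · have : ((g F : ℕ) : ℝ) ≤ cnt F + h F := by exact_mod_cast hd2
      linarith
    · have : ((cnt F : ℕ) : ℝ) ≤ g F + h F := by exact_mod_cast hd1
      linarith
  have hQ0 : (0 : ℝ) ≤ Nat.card F := Nat.cast_nonneg _
  have hh0 : (0 : ℝ) ≤ h F := Nat.cast_nonneg _
  rw [Nat.cast_add]
  refine ⟨fun hp => ?_, ?_⟩
  · have a := h1 ((le_max_left _ _).trans hp)
    have b := h2 ((le_max_right _ _).trans hp)
    rw [abs_of_nonneg (by positivity)] at b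
    set T := (((Ks.map fun K => nh K F).sum : ℕ) : ℝ) * (Nat.card F : ℝ) ^ r
    have e : |(cnt F : ℝ) * Nat.card F - T| ≤ |(g F : ℝ) * Nat.card F - T| + h F * Nat.card F := by
      refine (abs_sub_le _ ((g F : ℝ) * Nat.card F) _).trans ?_
      rw [← sub_mul, abs_mul, abs_of_nonneg hQ0, add_comm]
      exact add_le_add_right (mul_le_mul_of_nonneg_right hd' hQ0) _
    nlinarith [mul_le_mul_of_nonneg_right e (Real.sqrt_nonneg (Nat.card F : ℝ))]
  · rw [abs_of_nonneg hh0] at h2'
    set T := (((Ms.map fun pm => mterm pm F).sum : ℕ) : ℝ) * (Nat.card F : ℝ) ^ r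
    have e : |(cnt F : ℝ) - T| ≤ |(g F : ℝ) - T| + h F := by
      refine (abs_sub_le _ (g F : ℝ) _).trans ?_
      rw [add_comm]
      exact add_le_add_right hd' _
    nlinarith [mul_le_mul_of_nonneg_right e (Real.sqrt_nonneg (Nat.card F : ℝ))]

theorem HasModels.add {g₁ g₂ : Cnt} {r : ℕ} {K₁ K₂ : List NFld} {M₁ M₂ : List (ℕ × ℕ)}
    (h₁ : HasModels g₁ r K₁ M₁) (h₂ : HasModels g₂ r K₂ M₂) :
    HasModels (fun F _ _ => g₁ F + g₂ F) r (K₁ ++ K₂) (M₁ ++ M₂) := by
  obtain ⟨hM₁, C₁, p₁, hC₁⟩ := h₁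
  obtain ⟨hM₂, C₂, p₂, hC₂⟩ := h₂
  refine ⟨fun pm h => (List.mem_append.1 h).elim (hM₁ pm) (hM₂ pm), C₁ + C₂, max p₁ p₂, fun F _ _ => ?_⟩
  obtain ⟨a, a'⟩ := hC₁ F
  obtain ⟨b, b'⟩ := hC₂ F
  simp only [List.map_append, List.sum_append, Nat.cast_add]
  refine ⟨fun hp => ?_, ?_⟩
  · have a := a ((le_max_left _ _).trans hp)
    have b := b ((le_max_right _ _).trans hp)
    refine le_trans (mul_le_mul_of_nonneg_right (le_trans (le_of_eq ?_) (abs_add_le _ _)) (Real.sqrt_nonneg _))
      ((add_mul _ _ _).le.trans ((add_le_add a b).trans (le_of_eq (by ring))))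
    congr 1; ring
  · refine le_trans (mul_le_mul_of_nonneg_right (le_trans (le_of_eq ?_) (abs_add_le _ _)) (Real.sqrt_nonneg _))
      ((add_mul _ _ _).le.trans ((add_le_add a' b').trans (le_of_eq (by ring))))
    congr 1; ring

/-- The homomorphisms out of a ring. -/
noncomputable def homCnt (A : Type) [CommRing A] : Cnt := fun F _ _ => Nat.card (A →+* F)

theorem negligible_homCnt {A : Type} [CommRing A] [Algebra.FiniteType ℤ A] {r : ℕ}
    (hd : ringKrullDim A ≤ r) : Negligible (homCnt A) (r + 1) := by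
  obtain ⟨C, p₀, hC⟩ := exists_card_hom_le hd
  exact negligible_of_le fun F _ _ => (hC F).2

/-- In characteristic zero the count is `O (Q ^ (r - 1/2))` uniformly in the characteristic. -/
theorem exists_sqrt_bound {A : Type} [CommRing A] [IsDomain A] [CharZero A] [Algebra.FiniteType ℤ A] {r : ℕ}
    (hd : ringKrullDim A ≤ (r + 1 : ℕ)) : ∃ C : ℕ, ∀ (F : Type) [Field F] [Finite F],
      (homCnt A F : ℝ) * Real.sqrt (Nat.card F) ≤ C * (Nat.card F : ℝ) ^ (r + 1) := by
  classical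
  obtain ⟨C, p₀, hC⟩ := exists_card_hom_le hd
  choose! c P hc using fun p : ℕ => fun hp : p ≠ 0 => exists_card_zero_le hd (f := (p : A)) (Nat.cast_ne_zero.2 hp)
  refine ⟨max C ((Finset.range p₀).sup c), fun F _ _ => ?_⟩
  have hs := sqrt_card_le F
  have hQ0 : (0 : ℝ) ≤ (Nat.card F : ℝ) ^ (r + 1) := by positivity
  by_cases hp : p₀ ≤ ringChar F
  · have h := (hC F).2
    rw [if_pos hp] at h
    calc (homCnt A F : ℝ) * Real.sqrt (Nat.card F) ≤ homCnt A F * Nat.card F :=
          mul_le_mul_of_nonneg_left hs (Nat.cast_nonneg _)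
      _ ≤ C * (Nat.card F : ℝ) ^ (r + 1) := by exact_mod_cast h
      _ ≤ _ := mul_le_mul_of_nonneg_right (by exact_mod_cast le_max_left _ _) hQ0
  · have hq : ringChar F ≠ 0 := fun h => by
      haveI : CharP F 0 := h ▸ ringChar.charP F
      haveI : CharZero F := CharP.charP_to_charZero F
      exact not_finite F
    obtain ⟨hfin, h⟩ := hc _ hq F
    haveI := hfin
    have hle : homCnt A F ≤ c (ringChar F) * Nat.card F ^ r := by
      refine le_trans (le_trans (Nat.card_le_card_of_injective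
        (fun φ : A →+* F => (⟨φ, by rw [map_natCast, ringChar.Nat.cast_ringChar]⟩ :
          {φ : A →+* F // φ (ringChar F : A) = 0})) fun φ ψ e => congrArg Subtype.val e) ?_) h
      refine Nat.le_mul_of_pos_right _ ?_
      split_ifs
      · exact Nat.card_pos
      · exact one_pos
    have hcs : c (ringChar F) ≤ max C ((Finset.range p₀).sup c) :=
      le_max_of_le_right (Finset.le_sup (Finset.mem_range.2 (not_le.1 hp)))
    calc (homCnt A F : ℝ) * Real.sqrt (Nat.card F) ≤ (c (ringChar F) * (Nat.card F : ℝ) ^ r) * Nat.card F :=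
          mul_le_mul (by exact_mod_cast hle) hs (Real.sqrt_nonneg _) (by positivity)
      _ ≤ _ := by rw [mul_assoc, ← pow_succ]; exact mul_le_mul_of_nonneg_right (by exact_mod_cast hcs) hQ0

theorem card_intAlgHom {R F : Type} [CommRing R] [Algebra ℤ R] [CommRing F] [Algebra ℤ F] :
    Nat.card (R →ₐ[ℤ] F) = Nat.card (R →+* F) :=
  Nat.card_congr
    { toFun := fun φ => φ.toRingHom
      invFun := fun φ => { φ with
        commutes' := fun n => RingHom.congr_fun (RingHom.ext_int (φ.comp (algebraMap ℤ R)) (algebraMap ℤ F)) n }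
      left_inv := fun _ => rfl
      right_inv := fun _ => rfl }

/-- Birational subalgebras differ negligibly. -/
theorem exists_negligible_diff {K : Type} [Field K] {A B : Subalgebra ℤ K} (hA : A.FG)
    (hAb : ∀ y : K, ∃ a ∈ A, ∃ b ∈ A, b ≠ 0 ∧ y * b = a)
    (hB : B.FG) (hBb : ∀ y : K, ∃ a ∈ B, ∃ b ∈ B, b ≠ 0 ∧ y * b = a) {r : ℕ}
    (hdA : ringKrullDim A ≤ (r + 1 : ℕ)) (hdB : ringKrullDim B ≤ (r + 1 : ℕ)) :
    ∃ h : Cnt, Negligible h (r + 1) ∧ ∀ (F : Type) [Field F] [Finite F],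
      homCnt A F ≤ homCnt B F + h F ∧ homCnt B F ≤ homCnt A F + h F := by
  classical
  obtain ⟨a, ha, b, hb, ha0, hb0, heq⟩ := LangWeil25.exists_common hA hAb hB hBb
  obtain ⟨eA⟩ := LangWeil25.card_algHom_Aw A ha ha0
  obtain ⟨eB⟩ := LangWeil25.card_algHom_Aw B hb hb0
  haveI : Algebra.FiniteType ℤ A := (Subalgebra.fg_iff_finiteType A).mp hA
  haveI : Algebra.FiniteType ℤ B := (Subalgebra.fg_iff_finiteType B).mp hB
  obtain ⟨Ca, pa, hCa⟩ := exists_card_zero_le hdA (f := (⟨a, ha⟩ : A)) fun h => ha0 (congrArg Subtype.val h)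
  obtain ⟨Cb, pb, hCb⟩ := exists_card_zero_le hdB (f := (⟨b, hb⟩ : B)) fun h => hb0 (congrArg Subtype.val h)
  refine ⟨fun F _ _ => Nat.card {φ : A →+* F // φ ⟨a, ha⟩ = 0} + Nat.card {φ : B →+* F // φ ⟨b, hb⟩ = 0},
    ?_, fun F _ _ => ?_⟩
  · exact (negligible_of_le (cnt := fun F _ _ => Nat.card {φ : A →+* F // φ ⟨a, ha⟩ = 0}) fun F _ _ => (hCa F).2).add
      (negligible_of_le (cnt := fun F _ _ => Nat.card {φ : B →+* F // φ ⟨b, hb⟩ = 0}) fun F _ _ => (hCb F).2)
  · have key : ∀ (D : Subalgebra ℤ K) [Algebra.FiniteType ℤ D] (f : D), homCnt D F =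
        Nat.card {φ : D →+* F // φ f = 0} + Nat.card (Localization.Away f →+* F) := fun D _ f => by
      rw [homCnt, ← card_intAlgHom, card_algHom_split f F, card_intAlgHom (R := Localization.Away f)]
      congr 1
      exact Nat.card_congr
        { toFun := fun φ => ⟨φ.1.toRingHom, φ.2⟩
          invFun := fun φ => ⟨{ φ.1 with
            commutes' := fun n => RingHom.congr_fun (RingHom.ext_int (φ.1.comp (algebraMap ℤ D)) (algebraMap ℤ F)) n }, φ.2⟩
          left_inv := fun _ => rfl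
          right_inv := fun _ => rfl }
    rw [key A ⟨a, ha⟩, key B ⟨b, hb⟩, ← card_intAlgHom (R := Localization.Away (⟨a, ha⟩ : A)),
      Nat.card_congr (((eA.trans (Subalgebra.equivOfEq _ _ heq)).trans eB.symm).arrowCongr
        (AlgEquiv.refl : F ≃ₐ[ℤ] F)), card_intAlgHom]
    dsimp only
    omega

/-- The algebra homomorphisms over the various maps of the base. -/
noncomputable def fiberEquiv {k B F : Type} [CommRing k] [CommRing B] [Algebra k B] [CommRing F] :
    (B →+* F) ≃ Σ σ : k →+* F, (letI := σ.toAlgebra; B →ₐ[k] F) :=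
  (Equiv.sigmaFiberEquiv fun φ : B →+* F => φ.comp (algebraMap k B)).symm.trans
    (Equiv.sigmaCongrRight fun σ =>
      letI := σ.toAlgebra
      { toFun := fun φ => { φ.1 with commutes' := fun c => RingHom.congr_fun φ.2 c }
        invFun := fun ψ => ⟨ψ.toRingHom, RingHom.ext fun c => ψ.commutes c⟩
        left_inv := fun _ => rfl
        right_inv := fun _ => rfl })

/-- The points of a finitely generated domain in characteristic zero. -/
theorem exists_models_charZero {A : Type} [CommRing A] [IsDomain A] [CharZero A] [Algebra.FiniteType ℤ A]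
    (K : Type) [Field K] [Algebra A K] [IsFractionRing A K] {r : ℕ} (hd : ringKrullDim A ≤ r) :
    ∃ (Ks : List NFld) (Ms : List (ℕ × ℕ)), HasModels (homCnt A) r Ks Ms ∧
      (CharZero A → Ms = [] ∧ Ks.length ≤ 1) := by
  classical
  haveI : IsNoetherianRing A := Algebra.FiniteType.isNoetherianRing ℤ A
  -- the characteristic
  obtain ⟨n, e, he⟩ := Algebra.FiniteType.iff_quotient_mvPolynomial''.mp ‹Algebra.FiniteType ℤ A›
  have hadj : Algebra.adjoin ℤ (Set.range fun i => e (MvPolynomial.X i)) = (⊤ : Subalgebra ℤ A) := by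
    rw [show (fun i => e (MvPolynomial.X i)) = e ∘ MvPolynomial.X from rfl, Set.range_comp, ← AlgHom.map_adjoin,
      MvPolynomial.adjoin_range_X, Algebra.map_top, AlgHom.range_eq_top]
    exact he
  have hbir : ∀ y : K, ∃ a ∈ (IsScalarTower.toAlgHom ℤ A K).range, ∃ b ∈ (IsScalarTower.toAlgHom ℤ A K).range,
      b ≠ 0 ∧ y * b = a := fun y => by
    obtain ⟨a, b, hb, rfl⟩ := IsFractionRing.div_surjective (A := A) y
    have hb0 := IsFractionRing.to_map_ne_zero_of_mem_nonZeroDivisors (K := K) hb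
    exact ⟨_, ⟨a, rfl⟩, _, ⟨b, rfl⟩, hb0, div_mul_cancel₀ _ hb0⟩
  by_cases hsmall : ∀ s : ℕ, r = s + 1 → ringKrullDim A ≤ s
  · rcases r with - | s
    · -- dimension zero is impossible
      exfalso
      have h1 := Zeta25.card_indep_lt_dim_of_charZero hadj
        (s := ∅) (algebraicIndependent_empty_type_iff.2 ((algebraMap ℤ A).injective_int)) hd
      simp at h1
    · exact ⟨[], [], negligible_homCnt (hsmall s rfl), fun _ => ⟨rfl, by simp⟩⟩
  push Not at hsmall
  obtain ⟨t, rfl, ht⟩ := hsmall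
  haveI : CharZero K := charZero_of_injective_algebraMap (IsFractionRing.injective A K)
  -- the transcendence degree
  haveI : Algebra.IsAlgebraic (Algebra.adjoin ℤ (Set.range fun i => e (MvPolynomial.X i))) A :=
    ⟨fun a => isAlgebraic_algebraMap (⟨a, hadj ▸ Algebra.mem_top⟩ :
      Algebra.adjoin ℤ (Set.range fun i => e (MvPolynomial.X i)))⟩
  haveI : NoZeroSMulDivisors ℤ A := inferInstance
  obtain ⟨T, hT, hTb⟩ := exists_isTranscendenceBasis_subset (R := ℤ) (Set.range fun i => e (MvPolynomial.X i))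
  obtain ⟨S, -, hSi, hST⟩ : ∃ S : Set (Fin n), S ⊆ Set.univ ∧ Set.InjOn (fun i => e (MvPolynomial.X i)) S ∧
      (fun i => e (MvPolynomial.X i)) '' S = T := by
    obtain ⟨S, hS⟩ := Set.exists_subset_bijOn ((fun i => e (MvPolynomial.X i)) ⁻¹' T) fun i => e (MvPolynomial.X i)
    exact ⟨S, Set.subset_univ _, hS.2.injOn, by rw [hS.2.image_eq, Set.image_preimage_eq_of_subset hT]⟩
  have hSalg : AlgebraicIndepOn ℤ (fun i => e (MvPolynomial.X i)) S :=
    (algebraicIndependent_image hSi).2 (hST ▸ hTb.1)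
  have hScard := Zeta25.card_indep_lt_dim_of_charZero hadj hSalg hd
  have hcard : Algebra.trdeg ℤ A ≤ (t : Cardinal) := by
    rw [← hTb.cardinalMk_eq_trdeg, ← hST, Cardinal.mk_image_eq_of_injOn _ _ hSi, ← Nat.cast_card]
    exact_mod_cast (Nat.le_of_succ_le_succ hScard)
  obtain ⟨x, hx⟩ := LangWeil25.exists_algebraicIndependent e.toRingHom he (r := t) (by
    have h := ht
    generalize ringKrullDim A = D at h ⊢
    induction D using WithBot.recBotCoe with
    | bot => exact absurd h not_lt_bot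
    | coe a =>
      exact WithBot.coe_le_coe.mpr (Order.add_one_le_of_lt (WithBot.coe_lt_coe.mp h)))
  have htr : Algebra.trdeg ℤ A = t := le_antisymm hcard (by simpa using hx.cardinalMk_le_trdeg)
  have hcl := IsScalarTower.algebraMap_eq ℤ A K
  haveI : Algebra.IsAlgebraic A K := IsLocalization.isAlgebraic K (nonZeroDivisors A)
  have htrK : Algebra.trdeg ℤ K = t := by
    rw [← trdeg_add_eq ℤ A (A := K), trdeg_eq_zero (R := A) (A := K), add_zero, htr]
  -- the constants
  haveI : Algebra.EssFiniteType A K := Algebra.EssFiniteType.of_isLocalization K (nonZeroDivisors A)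
  haveI : Algebra.EssFiniteType ℤ K := Algebra.EssFiniteType.comp ℤ A K
  haveI : IsScalarTower ℤ ℚ K := ⟨fun n q x => by simp [Algebra.smul_def, zsmul_eq_mul, mul_assoc]⟩
  haveI : Algebra.EssFiniteType ℚ K := Algebra.EssFiniteType.of_comp ℤ ℚ K
  set k := algebraicClosure ℚ K with hk
  haveI : Module.Finite ℚ k := NormFin18.finite_algebraicClosure ℚ K
  haveI : NumberField k := ⟨⟩
  haveI : Algebra.EssFiniteType k K := Algebra.EssFiniteType.of_comp ℚ k K
  haveI : Algebra.IsAlgebraic ℤ ℚ := IsLocalization.isAlgebraic ℚ (nonZeroDivisors ℤ)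
  haveI : Algebra.IsAlgebraic ℤ k := Algebra.IsAlgebraic.trans ℤ ℚ k
  haveI : Algebra.FiniteType ℤ (𝓞 k) := inferInstance
  haveI : IsScalarTower ℤ k K := ⟨fun n q x => by simp [Algebra.smul_def, zsmul_eq_mul, mul_assoc]⟩
  haveI : IsScalarTower ℤ (𝓞 k) K := ⟨fun n q x => by simp [Algebra.smul_def, zsmul_eq_mul, mul_assoc]⟩
  have htk : Algebra.trdeg k K = t := by
    rw [← htrK, ← trdeg_add_eq ℤ k (A := K), trdeg_eq_zero (R := ℤ) (A := k), zero_add]
  obtain ⟨B, hB, hBb, hBlw⟩ := exists_model_points (Rk := 𝓞 k) (k := k) t (K := K)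
    (fun y hy => ⟨⟨y, mem_algebraicClosure_iff.2 (hy.restrictScalars ℚ)⟩, rfl⟩) htk
  haveI : Algebra.FiniteType (𝓞 k) B := (Subalgebra.fg_iff_finiteType B).mp hB
  haveI : Algebra.FiniteType ℤ B := finiteType_int (Rk := 𝓞 k)
  have hBℤ : (B.restrictScalars ℤ).FG := (Subalgebra.fg_iff_finiteType _).mpr (by
    let ι : B →+* B.restrictScalars ℤ :=
      { toFun := fun x => ⟨x.1, x.2⟩, map_one' := rfl, map_mul' := fun _ _ => rfl, map_zero' := rfl,
        map_add' := fun _ _ => rfl }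
    exact Algebra.FiniteType.of_surjective
      ({ ι with commutes' := fun n => RingHom.congr_fun (RingHom.ext_int (ι.comp (algebraMap ℤ B))
          (algebraMap ℤ (B.restrictScalars ℤ))) n } : B →ₐ[ℤ] B.restrictScalars ℤ) fun x => ⟨⟨x.1, x.2⟩, rfl⟩)
  have hdA : ringKrullDim (IsScalarTower.toAlgHom ℤ A K).range ≤ (t + 1 : ℕ) :=
    (ringKrullDim_eq_of_ringEquiv (AlgEquiv.ofInjective _ (IsFractionRing.injective A K)).toRingEquiv).symm.le.trans hd
  have hdB : ringKrullDim (B.restrictScalars ℤ) ≤ (t + 1 : ℕ) :=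
    ringKrullDim_le (A := B) htk B.val.toRingHom Subtype.val_injective
  obtain ⟨h, hh, hAB⟩ := exists_negligible_diff
    (by rw [← Algebra.map_top]; exact (Algebra.FiniteType.out (R := ℤ) (A := A)).map (IsScalarTower.toAlgHom ℤ A K))
    hbir hBℤ hBb hdA hdB
  obtain ⟨C, p₁, hC⟩ := hBlw
  obtain ⟨c, hc⟩ := exists_nh_le ⟨k⟩
  obtain ⟨C', hC'⟩ := exists_sqrt_bound (A := A) hd
  have hA' : ∀ (F : Type) [Field F] [Finite F], homCnt (IsScalarTower.toAlgHom ℤ A K).range F = homCnt A F :=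
    fun F _ _ => Nat.card_congr
      { toFun := fun φ => φ.comp (AlgEquiv.ofInjective _ (IsFractionRing.injective A K)).toRingEquiv.toRingHom
        invFun := fun φ => φ.comp (AlgEquiv.ofInjective (IsScalarTower.toAlgHom ℤ A K)
          (IsFractionRing.injective A K)).symm.toRingEquiv.toRingHom
        left_inv := fun φ => RingHom.ext fun a => congrArg φ (AlgEquiv.apply_symm_apply _ a)
        right_inv := fun φ => RingHom.ext fun a => congrArg φ (AlgEquiv.symm_apply_apply _ a) }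
  refine ⟨[⟨k⟩], [], ⟨fun pm h => absurd h List.not_mem_nil, ?_⟩, fun _ => ⟨rfl, by simp⟩⟩
  obtain ⟨-, C₂, p₂, hC₂⟩ := hh
  refine ⟨c * C + C₂ + C', max p₁ p₂, fun F _ _ => ?_⟩
  set Q : ℝ := (Nat.card F : ℝ) with hQ
  have hQ0 : 0 ≤ Q := Nat.cast_nonneg _
  have hQr : 0 ≤ Q ^ (t + 1) := by positivity
  simp only [List.map_cons, List.map_nil, List.sum_cons, List.sum_nil, add_zero, Nat.cast_zero, zero_mul, sub_zero]
  push_cast
  refine ⟨fun hp => ?_, ?_⟩
  · obtain ⟨hfin, hnc⟩ := hc F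
    haveI := hfin
    letI := Fintype.ofFinite (𝓞 k →+* F)
    have hσ : ∀ σ : 𝓞 k →+* F, (letI := σ.toAlgebra; Finite (B →ₐ[𝓞 k] F) ∧
        |(Nat.card (B →ₐ[𝓞 k] F) : ℝ) - Q ^ t| * Real.sqrt Q ≤ C * Q ^ t) := fun σ => by
      letI := σ.toAlgebra
      exact ⟨finite_algHom (Rk := 𝓞 k) F, hC F ((le_max_left _ _).trans hp)⟩
    haveI : ∀ σ : 𝓞 k →+* F, Finite (letI := σ.toAlgebra; B →ₐ[𝓞 k] F) := fun σ => (hσ σ).1
    have hB1 : |(homCnt (B.restrictScalars ℤ) F : ℝ) - nh ⟨k⟩ F * Q ^ t| * Real.sqrt Q ≤ c * (C * Q ^ t) := by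
      have e : homCnt (B.restrictScalars ℤ) F =
          ∑ σ : 𝓞 k →+* F, Nat.card (letI := σ.toAlgebra; B →ₐ[𝓞 k] F) := by
        rw [← Nat.card_sigma]
        exact Nat.card_congr (fiberEquiv (k := 𝓞 k) (B := B) (F := F))
      rw [e, nh, Nat.card_eq_fintype_card, Fintype.card, Nat.cast_sum, ← nsmul_eq_mul, ← Finset.sum_const,
        ← Finset.sum_sub_distrib]
      refine (mul_le_mul_of_nonneg_right (Finset.abs_sum_le_sum_abs _ _) (Real.sqrt_nonneg _)).trans ?_
      rw [Finset.sum_mul]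
      refine (Finset.sum_le_card_nsmul _ _ (C * Q ^ t) fun σ _ => (hσ σ).2).trans ?_
      rw [nsmul_eq_mul]
      refine mul_le_mul_of_nonneg_right ?_ (by positivity)
      rw [← Fintype.card, ← Nat.card_eq_fintype_card]
      exact_mod_cast hnc
    have hd2 := (hC₂ F).1 ((le_max_right _ _).trans hp)
    simp only [List.map_nil, List.sum_nil, Nat.cast_zero, zero_mul, sub_zero] at hd2
    rw [abs_of_nonneg (by positivity), ← hQ] at hd2
    obtain ⟨u1, u2⟩ := hAB F
    rw [hA'] at u1 u2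
    have hdiff : |(homCnt A F : ℝ) - homCnt (B.restrictScalars ℤ) F| ≤ h F := by
      have v1 : ((homCnt A F : ℕ) : ℝ) ≤ homCnt (B.restrictScalars ℤ) F + h F := by exact_mod_cast u1
      have v2 : ((homCnt (B.restrictScalars ℤ) F : ℕ) : ℝ) ≤ homCnt A F + h F := by exact_mod_cast u2
      rw [abs_le]; constructor <;> linarith
    have e2 : |(homCnt A F : ℝ) * Q - nh ⟨k⟩ F * Q ^ (t + 1)| ≤
        (h F + |(homCnt (B.restrictScalars ℤ) F : ℝ) - nh ⟨k⟩ F * Q ^ t|) * Q := by
      rw [pow_succ, ← mul_assoc, ← sub_mul, abs_mul, abs_of_nonneg hQ0]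
      refine mul_le_mul_of_nonneg_right ((abs_sub_le _ (homCnt (B.restrictScalars ℤ) F : ℝ) _).trans ?_) hQ0
      exact add_le_add_left hdiff _
    have hC'0 : (0 : ℝ) ≤ C' * Q ^ (t + 1) := by positivity
    calc _ ≤ (h F + |(homCnt (B.restrictScalars ℤ) F : ℝ) - nh ⟨k⟩ F * Q ^ t|) * Q * Real.sqrt Q :=
          mul_le_mul_of_nonneg_right e2 (Real.sqrt_nonneg _)
      _ = h F * Q * Real.sqrt Q + |(homCnt (B.restrictScalars ℤ) F : ℝ) - nh ⟨k⟩ F * Q ^ t| * Real.sqrt Q * Q := by
          ring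
      _ ≤ C₂ * Q ^ (t + 1) + c * (C * Q ^ t) * Q := add_le_add hd2 (mul_le_mul_of_nonneg_right hB1 hQ0)
      _ ≤ _ := by rw [pow_succ] at hC'0 ⊢; nlinarith
  · rw [abs_of_nonneg (Nat.cast_nonneg _)]
    refine (hC' F).trans ?_
    rw [← hQ]
    have : (0 : ℝ) ≤ (c * C + C₂) * Q ^ (t + 1) := by positivity
    nlinarith

/-- The points of a finitely generated domain in positive characteristic. -/
theorem exists_models_charP {A : Type} [CommRing A] [IsDomain A] [Algebra.FiniteType ℤ A] (p : ℕ) [hp : Fact p.Prime]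
    [CharP A p] (K : Type) [Field K] [Algebra A K] [IsFractionRing A K] {r : ℕ} (hd : ringKrullDim A ≤ r) :
    ∃ (Ks : List NFld) (Ms : List (ℕ × ℕ)), HasModels (homCnt A) r Ks Ms := by
  classical
  haveI : IsNoetherianRing A := Algebra.FiniteType.isNoetherianRing ℤ A
  -- the characteristic
  obtain ⟨n, e, he⟩ := Algebra.FiniteType.iff_quotient_mvPolynomial''.mp ‹Algebra.FiniteType ℤ A›
  have hadj : Algebra.adjoin ℤ (Set.range fun i => e (MvPolynomial.X i)) = (⊤ : Subalgebra ℤ A) := by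
    rw [show (fun i => e (MvPolynomial.X i)) = e ∘ MvPolynomial.X from rfl, Set.range_comp, ← AlgHom.map_adjoin,
      MvPolynomial.adjoin_range_X, Algebra.map_top, AlgHom.range_eq_top]
    exact he
  have hbir : ∀ y : K, ∃ a ∈ (IsScalarTower.toAlgHom ℤ A K).range, ∃ b ∈ (IsScalarTower.toAlgHom ℤ A K).range,
      b ≠ 0 ∧ y * b = a := fun y => by
    obtain ⟨a, b, hb, rfl⟩ := IsFractionRing.div_surjective (A := A) y
    have hb0 := IsFractionRing.to_map_ne_zero_of_mem_nonZeroDivisors (K := K) hb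
    exact ⟨_, ⟨a, rfl⟩, _, ⟨b, rfl⟩, hb0, div_mul_cancel₀ _ hb0⟩
  letI : Algebra (ZMod p) A := ZMod.algebra A p
  letI : Algebra (ZMod p) K := ((algebraMap A K).comp (algebraMap (ZMod p) A)).toAlgebra
  haveI : IsScalarTower (ZMod p) A K := IsScalarTower.of_algebraMap_eq fun _ => rfl
  haveI : Algebra.FiniteType (ZMod p) A := Algebra.FiniteType.of_restrictScalars_finiteType ℤ (ZMod p) A
  have hchar : ∀ (F : Type) [Field F] [Finite F], ringChar F ≠ p → IsEmpty (A →+* F) := fun F _ _ hne => ⟨fun φ => by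
    have h1 : (p : F) = 0 := by rw [← map_natCast φ, CharP.cast_eq_zero, map_zero]
    rcases hp.out.eq_one_or_self_of_dvd _ ((ringChar.spec F p).1 h1) with h | h
    · exact CharP.ringChar_ne_one h
    · exact hne h⟩
  have hdim := VarDim.ringKrullDim_eq_tdeg (ZMod p) A
  obtain ⟨t, htd⟩ : ∃ t, VarDim.tdeg (ZMod p) A = t := ⟨_, rfl⟩
  rw [htd] at hdim
  have htr : Algebra.trdeg (ZMod p) A = (t : Cardinal) := by rw [VarDim.trdeg_eq_tdeg, htd]
  have htle : t ≤ r := by rw [hdim] at hd; exact_mod_cast hd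
  rcases htle.lt_or_eq with hlt | rfl
  · obtain ⟨s, rfl⟩ : ∃ s, r = s + 1 := ⟨r - 1, by omega⟩
    exact ⟨[], [], negligible_homCnt (hdim.le.trans (by exact_mod_cast Nat.le_of_lt_succ hlt))⟩
  have htK : Algebra.trdeg (ZMod p) K = (t : Cardinal) := by
    haveI : Algebra.IsAlgebraic A K := IsLocalization.isAlgebraic K (nonZeroDivisors A)
    rw [← trdeg_add_eq (ZMod p) A (A := K), trdeg_eq_zero (R := A) (A := K), add_zero, htr]
  haveI : Algebra.EssFiniteType A K := Algebra.EssFiniteType.of_isLocalization K (nonZeroDivisors A)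
  haveI : Algebra.EssFiniteType (ZMod p) K := Algebra.EssFiniteType.comp (ZMod p) A K
  obtain ⟨hm, C, hC⟩ := LangWeil25.exists_domain_points htK
    (A := (IsScalarTower.toAlgHom (ZMod p) A K).range)
    (by rw [← Algebra.map_top]; exact (Algebra.FiniteType.out (R := ZMod p) (A := A)).map (IsScalarTower.toAlgHom (ZMod p) A K))
    (fun y => by
      obtain ⟨a, ⟨a', rfl⟩, b, ⟨b', rfl⟩, h⟩ := hbir y
      exact ⟨_, ⟨a', rfl⟩, _, ⟨b', rfl⟩, h⟩)
  set m := Module.finrank (ZMod p) (algebraicClosure (ZMod p) K)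
  refine ⟨[], [(p, m)], fun pm h => ?_, C, p + 1, fun F _ _ => ?_⟩
  · rw [List.mem_singleton.1 h]; exact ⟨hp.out, hm⟩
  simp only [List.map_cons, List.map_nil, List.sum_cons, List.sum_nil, add_zero, Nat.cast_zero, zero_mul, sub_zero]
  have hCQ : (0 : ℝ) ≤ C * (Nat.card F : ℝ) ^ t := by positivity
  refine ⟨fun hp' => ?_, ?_⟩
  · haveI := hchar F (by omega)
    simpa [homCnt] using hCQ
  by_cases hF : ringChar F = p
  · haveI : CharP F p := hF ▸ ringChar.charP F
    letI : Algebra (ZMod p) F := ZMod.algebra F p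
    haveI : Module.Finite (ZMod p) F := Module.Finite.of_finite
    have hcnt : homCnt A F = Nat.card ((IsScalarTower.toAlgHom (ZMod p) A K).range →ₐ[ZMod p] F) := by
      refine Nat.card_congr (Equiv.trans ?_ ((AlgEquiv.ofInjective (IsScalarTower.toAlgHom (ZMod p) A K)
        (IsFractionRing.injective A K)).arrowCongr AlgEquiv.refl))
      exact
        { toFun := fun φ => { φ with commutes' := fun z => RingHom.congr_fun (RingHom.ext_zmod
            (φ.comp (algebraMap (ZMod p) A)) (algebraMap (ZMod p) F)) z }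
          invFun := fun ψ => ψ.toRingHom
          left_inv := fun _ => rfl
          right_inv := fun _ => rfl }
    have hq : Nat.card F = p ^ Module.finrank (ZMod p) F := by
      rw [Module.natCard_eq_pow_finrank (K := ZMod p), Nat.card_zmod]
    have hiff : (∃ j : ℕ, (p ^ m) ^ j = Nat.card F) ↔ m ∣ Module.finrank (ZMod p) F := by
      rw [hq]
      simp only [← pow_mul, (Nat.pow_right_injective hp.out.two_le).eq_iff]
      exact ⟨fun ⟨j, hj⟩ => ⟨j, hj.symm⟩, fun ⟨j, hj⟩ => ⟨j, hj.symm⟩⟩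
    obtain ⟨h1, h2⟩ := hC F
    rw [hcnt]
    unfold mterm
    split_ifs with hj
    · exact h1 (hiff.1 hj)
    · rw [Nat.cast_zero, zero_mul, sub_zero, abs_of_nonneg (Nat.cast_nonneg _)]
      exact le_trans (mul_le_mul_of_nonneg_left (sqrt_card_le F) (Nat.cast_nonneg _)) (h2 (fun h => hj (hiff.2 h)))
  · haveI := hchar F hF
    have hnot : ¬ ∃ j : ℕ, (p ^ m) ^ j = Nat.card F := by
      rintro ⟨j, hj⟩
      have h1 : (p : F) = 0 := by
        by_contra hne
        have h2 : ((Nat.card F : ℕ) : F) = 0 := by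
          letI := Fintype.ofFinite F
          rw [Nat.card_eq_fintype_card, FiniteField.cast_card_eq_zero]
        rw [← hj, Nat.cast_pow, Nat.cast_pow] at h2
        exact pow_ne_zero _ (pow_ne_zero _ hne) h2
      rcases hp.out.eq_one_or_self_of_dvd _ ((ringChar.spec F p).1 h1) with h | h
      · exact CharP.ringChar_ne_one h
      · exact hF h
    simpa [homCnt, mterm, hnot] using hCQ

/-- The points of a finitely generated domain. -/
theorem exists_models {A : Type} [CommRing A] [IsDomain A] [Algebra.FiniteType ℤ A] {r : ℕ}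
    (hd : ringKrullDim A ≤ r) :
    ∃ (Ks : List NFld) (Ms : List (ℕ × ℕ)), HasModels (homCnt A) r Ks Ms ∧
      (CharZero A → Ms = [] ∧ Ks.length ≤ 1) := by
  rcases CharP.exists' A with h0 | ⟨p, hp, hpA⟩
  · exact exists_models_charZero (FractionRing A) hd
  · obtain ⟨Ks, Ms, h⟩ := exists_models_charP p (FractionRing A) hd
    exact ⟨Ks, Ms, h, fun h0 => absurd ((Nat.cast_eq_zero (R := A)).1 (CharP.cast_eq_zero A p)) hp.out.ne_zero⟩

end Groth.Agent.ArithLW25
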