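import Groth.Agent.Lib.ArithLW25.SchemeZ
import Groth.Agent.Lib.DedekindCont25.Dedekind
import Groth.Agent.Lib.DedekindCont25.EulerLog
import Groth.Agent.Lib.Zeta25.ClosedPoints
import Mathlib.RingTheory.DedekindDomain.Ideal.Lemmas

/-!
# The logarithmic coefficients of zeta functions count points
-/

set_option autoImplicit false

universe u

namespace Groth.Agent.ArithLW25

open AlgebraicGeometry CategoryTheory NumberField Groth.Agent DedekindCont25 Zeta25

theorem exists_card_eq (F : Type*) [Field F] [Finite F] :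
    ∃ p e : ℕ, p.Prime ∧ 1 ≤ e ∧ CharP F p ∧ Nat.card F = p ^ e := by
  letI := Fintype.ofFinite F
  obtain ⟨n, hp, hn⟩ := FiniteField.card F (ringChar F)
  exact ⟨ringChar F, n, hp, n.2, ringChar.charP F, by rw [Nat.card_eq_fintype_card, hn]⟩

/-- The embeddings of a finite field into a bigger one. -/
theorem card_ringHom (κ F : Type*) [Field κ] [Finite κ] [Field F] [Finite F] {p e j : ℕ}
    (hp : p.Prime) (he : Nat.card F = p ^ e) (h : Nat.card κ ^ (j + 1) = Nat.card F) :
    Finite (κ →+* F) ∧ Nat.card (κ →+* F) * (j + 1) = e := by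
  refine ⟨Finite.of_injective _ DFunLike.coe_injective, ?_⟩
  obtain ⟨q, f, hq, hf, hqc, hκ⟩ := exists_card_eq κ
  obtain ⟨q', e', hq', he', hqc', hF⟩ := exists_card_eq F
  haveI := hqc
  haveI := hqc'
  rw [hF] at he
  obtain rfl : q' = p := (Nat.prime_dvd_prime_iff_eq hq' hp).1 (hq'.dvd_of_dvd_pow (he ▸ dvd_pow_self q' (by omega)))
  obtain rfl : e' = e := Nat.pow_right_injective hp.two_le he
  rw [hF, hκ, ← pow_mul] at h
  obtain rfl : q = q' := (Nat.prime_dvd_prime_iff_eq hq hp).1
    (hq.dvd_of_dvd_pow (h ▸ dvd_pow_self q (Nat.mul_ne_zero (by omega) (by omega))))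
  have hfe : f * (j + 1) = e' := Nat.pow_right_injective hp.two_le h
  haveI : Fact q.Prime := ⟨hp⟩
  letI := ZMod.algebra κ q
  letI := ZMod.algebra F q
  haveI : Module.Finite (ZMod q) κ := Module.Finite.of_finite
  haveI : Module.Finite (ZMod q) F := Module.Finite.of_finite
  have h1 : Module.finrank (ZMod q) κ = f := Nat.pow_right_injective hp.two_le (by
    show q ^ _ = q ^ f
    rw [← hκ, Module.natCard_eq_pow_finrank (K := ZMod q), Nat.card_zmod])
  have h2 : Module.finrank (ZMod q) F = e' := Nat.pow_right_injective hp.two_le (by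
    show q ^ _ = q ^ e'
    rw [← hF, Module.natCard_eq_pow_finrank (K := ZMod q) (V := F), Nat.card_zmod])
  have e0 : Nat.card (κ →+* F) = Nat.card (κ →ₐ[ZMod q] F) := Nat.card_congr
    { toFun := fun φ => { φ with commutes' := fun z => RingHom.congr_fun (RingHom.ext_zmod
        (φ.comp (algebraMap (ZMod q) κ)) (algebraMap (ZMod q) F)) z }
      invFun := fun φ => φ.toRingHom
      left_inv := fun _ => rfl
      right_inv := fun _ => rfl }
  rw [e0, FiniteField.natCard_algHom_of_finrank_dvd (by rw [h1, h2, ← hfe]; exact dvd_mul_right _ _), h1, hfe]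

theorem exists_pow_eq_of_hom {κ F : Type*} [Field κ] [Finite κ] [Field F] [Finite F] (φ : κ →+* F) :
    ∃ j : ℕ, Nat.card κ ^ (j + 1) = Nat.card F := by
  letI := φ.toAlgebra
  haveI : Module.Finite κ F := Module.Finite.of_finite
  refine ⟨Module.finrank κ F - 1, ?_⟩
  rw [Nat.sub_add_cancel Module.finrank_pos]
  exact Module.natCard_eq_pow_finrank.symm

/-- The logarithmic coefficients vanish outside the prime powers. -/
theorem logCoeff_eq_zero_of_not_isPrimePow {P : Type*} {N : P → ℕ} (hN : ∀ x, IsPrimePow (N x)) {n : ℕ}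
    (hn : ¬ IsPrimePow n) : logCoeff N n = 0 :=
  logCoeff_eq_zero n fun x j h => hn (h ▸ (hN x).pow (Nat.succ_ne_zero j))

section Scheme

variable {X : Scheme.{u}} (f : X ⟶ Spec (CommRingCat.of (ULift.{u} ℤ))) [LocallyOfFiniteType f]

include f in
theorem isClosed_point {F : Type} [Field F] [Finite F] (g : Spec (CommRingCat.of (ULift.{u} F)) ⟶ X) :
    IsClosed ({g.base (IsLocalRing.closedPoint (ULift.{u} F))} : Set X) := by
  haveI : IsJacobsonRing (ULift.{u} ℤ) := by
    haveI := int_jacobson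
    exact isJacobsonRing_of_surjective ⟨(ULift.ringEquiv : ULift.{u} ℤ ≃+* ℤ).symm.toRingHom,
      (ULift.ringEquiv : ULift.{u} ℤ ≃+* ℤ).symm.surjective⟩
  haveI : JacobsonSpace (Spec (CommRingCat.of (ULift.{u} ℤ))) :=
    PrimeSpectrum.isJacobsonRing_iff_jacobsonSpace.mp inferInstance
  haveI : JacobsonSpace X := LocallyOfFiniteType.jacobsonSpace f
  haveI : LocallyOfFiniteType (g ≫ f) := by
    rw [← Spec.map_preimage (g ≫ f), HasRingHomProperty.Spec_iff (P := @LocallyOfFiniteType)]
    letI : Algebra (ULift.{u} ℤ) (ULift.{u} F) := (Spec.preimage (g ≫ f)).hom.toAlgebra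
    haveI : Module.Finite (ULift.{u} ℤ) (ULift.{u} F) := Module.Finite.of_finite
    exact RingHom.finiteType_algebraMap.mpr (inferInstanceAs (Algebra.FiniteType (ULift.{u} ℤ) (ULift.{u} F)))
  haveI : LocallyOfFiniteType g := locallyOfFiniteType_of_comp g f
  exact g.closePoints_subset_preimage_closedPoints (IsLocalRing.isClosed_singleton_closedPoint (ULift.{u} F))

include f in
theorem isPrimePow_ptNorm (x : Zeta25.Closed X) : IsPrimePow (ptNorm X x) := by
  haveI := finite_residueField f x.2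
  letI := Fintype.ofFinite (X.residueField x.1)
  rw [show ptNorm X x = Nat.card (X.residueField x.1) from rfl, Nat.card_eq_fintype_card]
  exact FiniteField.isPrimePow_card _

variable [QuasiCompact f]

include f in
/-- The logarithmic coefficients count the points. -/
theorem setCnt_eq_logCoeff {r : ℕ} (hr : topologicalKrullDim X ≤ r) (F : Type) [Field F] [Finite F] {p e : ℕ}
    (hp : p.Prime) (he : Nat.card F = p ^ e) :
    (setCnt (Set.univ : Set X) F : ℝ) = e * logCoeff (ptNorm X) (Nat.card F) := by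
  obtain ⟨c, p₀, hfin⟩ := exists_card_closed_le f hr
  have hF : Nat.card (ULift.{u} F) = Nat.card F := Nat.card_congr Equiv.ulift
  have key := card_eq_logCoeff (N := ptNorm X) (fun x => card_residueField_two_le f x.2) (fun n => (hfin n).1)
    (q := Nat.card F) (e := e) (fun x : Zeta25.Closed X => (X.residueField x.1 →+* ULift.{u} F))
    (fun x j h => by
      haveI := finite_residueField f x.2
      exact card_ringHom _ _ hp (hF.trans he) (h.trans hF.symm))
    (fun x ⟨φ⟩ => by
      haveI := finite_residueField f x.2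
      obtain ⟨j, hj⟩ := exists_pow_eq_of_hom φ
      exact ⟨j, hj.trans hF⟩)
  rw [← key, setCnt]
  congr 1
  let Ψ : (Σ x : Zeta25.Closed X, (X.residueField x.1 →+* ULift.{u} F)) →
      {g : Spec (CommRingCat.of (ULift.{u} F)) ⟶ X // g.base (IsLocalRing.closedPoint (ULift.{u} F)) ∈ Set.univ} :=
    fun y => ⟨(Scheme.SpecToEquivOfField (ULift.{u} F) X).symm ⟨y.1.1, CommRingCat.ofHom y.2⟩, trivial⟩
  refine (Nat.card_congr (Equiv.ofBijective Ψ ⟨fun a b h => ?_, fun g => ?_⟩)).symm
  · have h1 := (Scheme.SpecToEquivOfField (ULift.{u} F) X).symm.injective (congrArg Subtype.val h)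
    obtain ⟨⟨x, hx⟩, φ⟩ := a
    obtain ⟨⟨y, hy⟩, ψ⟩ := b
    obtain ⟨hxy, h2⟩ := Sigma.mk.inj_iff.1 h1
    change x = y at hxy
    subst hxy
    exact congrArg _ (congrArg CommRingCat.Hom.hom (eq_of_heq h2))
  · obtain ⟨⟨x, φ⟩, hg⟩ := (Scheme.SpecToEquivOfField (ULift.{u} F) X).symm.surjective g.1
    have hx : IsClosed ({x} : Set X) := by
      have hxg : g.1.base (IsLocalRing.closedPoint (ULift.{u} F)) = x := by
        rw [← hg, Scheme.SpecToEquivOfField_symm_apply, Scheme.Hom.comp_base, TopCat.coe_comp, Function.comp_apply]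
        exact Scheme.fromSpecResidueField_apply _ _
      exact hxg ▸ isClosed_point f g.1
    exact ⟨⟨⟨x, hx⟩, φ.hom⟩, Subtype.ext hg⟩

end Scheme

section Field

open IsDedekindDomain

variable (K : Type) [Field K] [NumberField K]

/-- The norms of the primes. -/
noncomputable abbrev primeNorm : HeightOneSpectrum (𝓞 K) → ℕ := fun v => Ideal.absNorm v.asIdeal

theorem card_quotient (v : HeightOneSpectrum (𝓞 K)) :
    Finite (𝓞 K ⧸ v.asIdeal) ∧ Nat.card (𝓞 K ⧸ v.asIdeal) = primeNorm K v :=
  ⟨Nat.finite_of_card_ne_zero fun h => v.ne_bot (Ideal.absNorm_eq_zero_iff.1 h), rfl⟩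

theorem isPrimePow_primeNorm (v : HeightOneSpectrum (𝓞 K)) : IsPrimePow (primeNorm K v) := by
  obtain ⟨hfin, hc⟩ := card_quotient K v
  haveI := hfin
  haveI := v.isMaximal
  letI := Ideal.Quotient.field v.asIdeal
  letI := Fintype.ofFinite (𝓞 K ⧸ v.asIdeal)
  rw [← hc, Nat.card_eq_fintype_card]
  exact FiniteField.isPrimePow_card _

theorem summable_primeNorm {σ : ℝ} (hσ : 1 < σ) :
    Summable fun v : HeightOneSpectrum (𝓞 K) => (primeNorm K v : ℝ) ^ (-σ) :=
  ((exists_dedekindZeta_continuation K).2.1 σ hσ).comp_injective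
    (i := fun v : HeightOneSpectrum (𝓞 K) => (⟨v.asIdeal, mem_nonZeroDivisors_of_ne_zero v.ne_bot⟩ :
      (nonZeroDivisors (Ideal (𝓞 K)) : Set (Ideal (𝓞 K))))) fun a b h =>
    HeightOneSpectrum.ext (congrArg Subtype.val h)

/-- The Dedekind zeta function is the exponential of its logarithmic series. -/
theorem dedekindZeta_eq_exp {s : ℂ} (hs : 1 < s.re) :
    dedekindZeta K s = Complex.exp (LSeries (fun n => (logCoeff (primeNorm K) n : ℂ)) s) := by
  classical
  have h2 : ∀ v, 2 ≤ primeNorm K v := fun v => (isPrimePow_primeNorm K v).two_le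
  have hσ : (0 : ℝ) < s.re := by linarith
  rw [← lSeries_eq_exp_logCoeff h2 hσ (summable_primeNorm K hs) le_rfl, LSeries,
    (hasSum_term h2 hσ (summable_primeNorm K hs) le_rfl).tsum_eq,
    ← ((exists_dedekindZeta_continuation K).1 s hs).tsum_eq]
  symm
  let P := HeightOneSpectrum (𝓞 K)
  let π : (P →₀ ℕ) → Ideal (𝓞 K) := fun α => ((Finsupp.toMultiset α).map fun v : P => v.asIdeal).prod
  have hπ : ∀ α, π α = α.prod fun v n => v.asIdeal ^ n := fun α => by
    simp only [π]
    rw [Finsupp.toMultiset_map, Finsupp.prod_toMultiset, Finsupp.prod_mapDomain_index (fun _ => pow_zero _)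
      (fun _ _ _ => pow_add _ _ _)]
  have hprime : ∀ (α : P →₀ ℕ), ∀ q ∈ (Finsupp.toMultiset α).map (fun v : P => v.asIdeal), Prime q := fun α q hq => by
    obtain ⟨v, -, rfl⟩ := Multiset.mem_map.1 hq
    exact v.prime
  let Φ : (P →₀ ℕ) → (nonZeroDivisors (Ideal (𝓞 K))) := fun α => ⟨π α, mem_nonZeroDivisors_of_ne_zero
    (Multiset.prod_ne_zero fun h => (hprime α _ h).ne_zero rfl)⟩
  have hΦ : Function.Bijective Φ := by
    constructor
    · intro α β h
      have h1 := congrArg (fun I : (nonZeroDivisors (Ideal (𝓞 K))) =>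
        UniqueFactorizationMonoid.normalizedFactors (I : Ideal (𝓞 K))) h
      simp only [Φ, π, UniqueFactorizationMonoid.normalizedFactors_prod_of_prime (hprime _)] at h1
      have h2 := congrArg Multiset.toFinsupp (Multiset.map_injective (fun (a b : P) h => HeightOneSpectrum.ext h) h1)
      simpa using h2
    · rintro ⟨I, hI⟩
      have hI0 : I ≠ 0 := nonZeroDivisors.ne_zero hI
      let M := (UniqueFactorizationMonoid.normalizedFactors I).pmap
        (fun J (hJ : Prime J) => (⟨J, Ideal.isPrime_of_prime hJ, hJ.ne_zero⟩ : P))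
        fun J hJ => UniqueFactorizationMonoid.prime_of_normalized_factor J hJ
      refine ⟨Multiset.toFinsupp M, Subtype.ext ?_⟩
      show π (Multiset.toFinsupp M) = I
      simp only [π, Multiset.toFinsupp_toMultiset, M, Multiset.map_pmap, Multiset.pmap_eq_map, Multiset.map_id']
      exact associated_iff_eq.1 (UniqueFactorizationMonoid.prod_normalizedFactors hI0)
  refine ((Equiv.ofBijective Φ hΦ).tsum_eq (fun I : (nonZeroDivisors (Ideal (𝓞 K))) =>
    ((Ideal.absNorm (I : Ideal (𝓞 K)) : ℕ) : ℂ) ^ (-s))).symm.trans ?_ |>.symm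
  refine tsum_congr fun α => ?_
  show ((Ideal.absNorm (π α) : ℕ) : ℂ) ^ (-s) = _
  rw [hπ, map_finsuppProd]
  simp only [map_pow]
  rfl

/-- The logarithmic coefficients count the points of the ring of integers. -/
theorem nh_eq_logCoeff (F : Type) [Field F] [Finite F] {p e : ℕ} (hp : p.Prime) (he : Nat.card F = p ^ e) :
    (Nat.card (𝓞 K →+* F) : ℝ) = e * logCoeff (primeNorm K) (Nat.card F) := by
  have h2 : ∀ v, 2 ≤ primeNorm K v := fun v => (isPrimePow_primeNorm K v).two_le
  have hfinN : ∀ n, Finite {v : HeightOneSpectrum (𝓞 K) // primeNorm K v = n} := fun n => by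
    haveI : Finite {I : Ideal (𝓞 K) // Ideal.absNorm I = n} := (Ideal.finite_setOfPred_absNorm_eq n).to_subtype
    exact Finite.of_injective (fun v => (⟨v.1.asIdeal, v.2⟩ : {I : Ideal (𝓞 K) // Ideal.absNorm I = n}))
      fun a b h => Subtype.ext (HeightOneSpectrum.ext (congrArg Subtype.val h))
  have key := card_eq_logCoeff (N := primeNorm K) h2 hfinN (q := Nat.card F) (e := e)
    (fun v : HeightOneSpectrum (𝓞 K) => (𝓞 K ⧸ v.asIdeal →+* F))
    (fun v j h => by
      haveI := v.isMaximal
      letI := Ideal.Quotient.field v.asIdeal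
      haveI := (card_quotient K v).1
      exact card_ringHom _ _ hp he (by rw [(card_quotient K v).2]; exact h))
    (fun v ⟨φ⟩ => by
      haveI := v.isMaximal
      letI := Ideal.Quotient.field v.asIdeal
      haveI := (card_quotient K v).1
      obtain ⟨j, hj⟩ := exists_pow_eq_of_hom φ
      exact ⟨j, by rw [← (card_quotient K v).2]; exact hj⟩)
  rw [← key]
  congr 1
  let Ψ : (Σ v : HeightOneSpectrum (𝓞 K), (𝓞 K ⧸ v.asIdeal →+* F)) → (𝓞 K →+* F) :=
    fun y => y.2.comp (Ideal.Quotient.mk _)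
  refine (Nat.card_congr (Equiv.ofBijective Ψ ⟨fun a b h => ?_, fun φ => ?_⟩)).symm
  · have hk : ∀ y : (Σ v : HeightOneSpectrum (𝓞 K), (𝓞 K ⧸ v.asIdeal →+* F)), RingHom.ker (Ψ y) = y.1.asIdeal := fun y => by
      haveI := y.1.isMaximal
      letI := Ideal.Quotient.field y.1.asIdeal
      ext x
      show y.2 (Ideal.Quotient.mk _ x) = 0 ↔ _
      rw [map_eq_zero_iff _ y.2.injective, Ideal.Quotient.eq_zero_iff_mem]
    obtain ⟨v, φ⟩ := a
    obtain ⟨w, ψ⟩ := b
    have hvw : v = w := HeightOneSpectrum.ext ((hk ⟨v, φ⟩).symm.trans ((congrArg RingHom.ker h).trans (hk ⟨w, ψ⟩)))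
    subst hvw
    exact congrArg _ (Ideal.Quotient.ringHom_ext h)
  · have hne : RingHom.ker φ ≠ ⊥ := fun h => by
      haveI : Infinite (𝓞 K) := Infinite.of_injective (fun n : ℕ => (n : 𝓞 K)) Nat.cast_injective
      exact not_injective_infinite_finite φ ((RingHom.injective_iff_ker_eq_bot φ).2 h)
    exact ⟨⟨⟨RingHom.ker φ, RingHom.ker_isPrime φ, hne⟩, RingHom.kerLift φ⟩, RingHom.ext fun x => rfl⟩

end Field

end Groth.Agent.ArithLW25
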