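import Groth.Agent.Lib.LangWeil25.Recursion
import Groth.Agent.Lib.LangWeil25.Domain

/-!
# Points of finitely generated algebras over a ring of integers
-/

set_option autoImplicit false

namespace Groth.Agent.ArithLW25

open Groth.Agent

variable (Rk : Type) [CommRing Rk]

/-- `R` has `Q ^ r + O(Q ^ (r - 1/2))` points over fields of large characteristic. -/
def IsLW0 (R : Type) [CommRing R] [Algebra Rk R] (r : ℕ) : Prop :=
  ∃ C p₀ : ℕ, ∀ (F : Type) [Field F] [Finite F] [Algebra Rk F], p₀ ≤ ringChar F →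
    |(Nat.card (R →ₐ[Rk] F) : ℝ) - (Nat.card F : ℝ) ^ r| * Real.sqrt (Nat.card F) ≤
      C * (Nat.card F : ℝ) ^ r

variable {Rk}

theorem IsLW0.congr {A B : Type} [CommRing A] [Algebra Rk A] [CommRing B] [Algebra Rk B] {r : ℕ}
    (h : IsLW0 Rk A r) (e : A ≃ₐ[Rk] B) : IsLW0 Rk B r := by
  obtain ⟨C, p₀, hC⟩ := h
  refine ⟨C, p₀, fun F _ _ _ hp => ?_⟩
  rw [← Nat.card_congr (e.arrowCongr (AlgEquiv.refl : F ≃ₐ[Rk] F))]
  exact hC F hp

theorem finite_algHom {A : Type} [CommRing A] [Algebra Rk A] [Algebra.FiniteType Rk A]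
    (F : Type) [Field F] [Finite F] [Algebra Rk F] : Finite (A →ₐ[Rk] F) := by
  obtain ⟨n, e, he⟩ := Algebra.FiniteType.iff_quotient_mvPolynomial''.mp ‹Algebra.FiniteType Rk A›
  refine Finite.of_injective (fun φ : A →ₐ[Rk] F => fun i => φ (e (MvPolynomial.X i))) fun φ ψ h => ?_
  exact (AlgHom.cancel_right he).1 (MvPolynomial.algHom_ext fun i => congrFun h i)

theorem card_algHom_split {A : Type} [CommRing A] [Algebra Rk A] [Algebra.FiniteType Rk A] (f : A)
    (F : Type) [Field F] [Finite F] [Algebra Rk F] :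
    Nat.card (A →ₐ[Rk] F) = Nat.card {φ : A →ₐ[Rk] F // φ f = 0} + Nat.card (Localization.Away f →ₐ[Rk] F) := by
  classical
  haveI := finite_algHom (Rk := Rk) (A := A) F
  have e : Nat.card (Localization.Away f →ₐ[Rk] F) = Nat.card {φ : A →ₐ[Rk] F // ¬ φ f = 0} := by
    refine Nat.card_congr
      { toFun := fun ψ => ⟨ψ.comp (IsScalarTower.toAlgHom Rk A (Localization.Away f)), fun h => ?_⟩
        invFun := fun φ => IsLocalization.liftAlgHom (M := Submonoid.powers f) (f := φ.1) fun y => by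
          obtain ⟨n, hn⟩ := y.2
          rw [← hn, map_pow]
          exact (isUnit_iff_ne_zero.2 φ.2).pow n
        left_inv := fun ψ => ?_
        right_inv := fun φ => Subtype.ext (AlgHom.ext fun a => by simp) }
    · have hu := (IsLocalization.Away.algebraMap_isUnit (S := Localization.Away f) f).map ψ
      exact hu.ne_zero h
    · refine AlgHom.coe_ringHom_injective (IsLocalization.ringHom_ext (Submonoid.powers f) (RingHom.ext fun a => ?_))
      simp
  rw [e, ← Nat.card_sum]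
  exact Nat.card_congr (Equiv.sumCompl _).symm

theorem dim_quotient_le {A : Type} [CommRing A] [IsDomain A] {r : ℕ} (hd : ringKrullDim A ≤ (r + 1 : ℕ))
    {f : A} (hf : f ≠ 0) : ringKrullDim (A ⧸ Ideal.span {f}) ≤ r := by
  have h := (ringKrullDim_quotient_succ_le_of_nonZeroDivisor (mem_nonZeroDivisors_of_ne_zero hf)).trans hd
  generalize ringKrullDim (A ⧸ Ideal.span {f}) = D at h ⊢
  induction D using WithBot.recBotCoe with
  | bot => exact bot_le
  | coe a =>
    have h' : ((a + 1 : ℕ∞) : WithBot ℕ∞) ≤ (((r + 1 : ℕ) : ℕ∞) : WithBot ℕ∞) := by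
      push_cast
      exact_mod_cast h
    rw [WithBot.coe_le_coe, Nat.cast_succ] at h'
    exact_mod_cast (ENat.add_le_add_iff_right ENat.one_ne_top).mp h'

/-- Homomorphisms into finite fields of a finitely generated ring, bounded by its dimension. -/
theorem exists_card_hom_le {A : Type} [CommRing A] [Algebra.FiniteType ℤ A] {r : ℕ} (hd : ringKrullDim A ≤ r) :
    ∃ C p₀ : ℕ, ∀ (F : Type) [Field F] [Finite F], Finite (A →+* F) ∧
      Nat.card (A →+* F) * (if p₀ ≤ ringChar F then Nat.card F else 1) ≤ C * Nat.card F ^ r := by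
  obtain ⟨n, e, he⟩ := Algebra.FiniteType.iff_quotient_mvPolynomial''.mp ‹Algebra.FiniteType ℤ A›
  let E := RingHom.quotientKerEquivOfSurjective (f := e.toRingHom) he
  obtain ⟨c, p₀, hc⟩ := Zeta25.good_quotient.{0} (RingHom.ker e.toRingHom) r
    ((ringKrullDim_eq_of_ringEquiv E).le.trans hd)
  refine ⟨c, p₀, fun F _ _ => ?_⟩
  haveI := Zeta25.finite_hom _ (Ideal.Quotient.mk_surjective (I := RingHom.ker e.toRingHom)) F
  have hinj : Function.Injective fun φ : A →+* F => φ.comp E.toRingHom := fun φ ψ h =>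
    (RingHom.cancel_right (g₁ := φ) (g₂ := ψ) E.surjective).1 h
  exact ⟨Finite.of_injective _ hinj,
    le_trans (Nat.mul_le_mul (Nat.card_le_card_of_injective _ hinj) le_rfl) (hc F)⟩

/-- The zero locus of a nonzero function. -/
theorem exists_card_zero_le {A : Type} [CommRing A] [IsDomain A] [Algebra.FiniteType ℤ A] {r : ℕ}
    (hd : ringKrullDim A ≤ (r + 1 : ℕ)) {f : A} (hf : f ≠ 0) :
    ∃ C p₀ : ℕ, ∀ (F : Type) [Field F] [Finite F], Finite {φ : A →+* F // φ f = 0} ∧
      Nat.card {φ : A →+* F // φ f = 0} * (if p₀ ≤ ringChar F then Nat.card F else 1) ≤ C * Nat.card F ^ r := by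
  haveI hq : @Algebra.FiniteType ℤ (A ⧸ Ideal.span {f}) _ _ (Ring.toIntAlgebra _) :=
    Algebra.FiniteType.of_surjective (Ideal.Quotient.mk (Ideal.span {f})).toIntAlgHom Ideal.Quotient.mk_surjective
  obtain ⟨C, p₀, hC⟩ := exists_card_hom_le (dim_quotient_le hd hf)
  refine ⟨C, p₀, fun F _ _ => ?_⟩
  obtain ⟨hfin, hle⟩ := hC F
  have hz : ∀ φ : {φ : A →+* F // φ f = 0}, ∀ a ∈ Ideal.span {f}, φ.1 a = 0 := fun φ a ha => by
    obtain ⟨b, rfl⟩ := Ideal.mem_span_singleton'.1 ha
    rw [map_mul, φ.2, mul_zero]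
  have hinj : Function.Injective fun φ : {φ : A →+* F // φ f = 0} => Ideal.Quotient.lift _ φ.1 (hz φ) := fun φ ψ h =>
    Subtype.ext (RingHom.ext fun a => RingHom.congr_fun h (Ideal.Quotient.mk _ a))
  exact ⟨Finite.of_injective _ hinj, le_trans (Nat.mul_le_mul (Nat.card_le_card_of_injective _ hinj) le_rfl) hle⟩

theorem IsLW0.away {A : Type} [CommRing A] [IsDomain A] [Algebra Rk A] [Algebra.FiniteType Rk A]
    [Algebra.FiniteType ℤ A] {r : ℕ}
    (h : IsLW0 Rk A r) (hd : ringKrullDim A ≤ (r + 1 : ℕ)) {f : A} (hf : f ≠ 0) :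
    IsLW0 Rk (Localization.Away f) r := by
  obtain ⟨C, p₁, hC⟩ := h
  obtain ⟨C', p₂, hC'⟩ := exists_card_zero_le hd hf
  refine ⟨C + C', max p₁ p₂, fun F _ _ _ hp => ?_⟩
  obtain ⟨hfin, h2⟩ := hC' F
  haveI := hfin
  rw [if_pos ((le_max_right _ _).trans hp)] at h2
  have h1 := hC F ((le_max_left _ _).trans hp)
  rw [card_algHom_split f F] at h1
  set Z := Nat.card {φ : A →ₐ[Rk] F // φ f = 0}
  have hZ : Z ≤ Nat.card {φ : A →+* F // φ f = 0} := Nat.card_le_card_of_injective
    (fun φ => ⟨φ.1.toRingHom, φ.2⟩) fun φ ψ h => Subtype.ext (AlgHom.coe_ringHom_injective (congrArg Subtype.val h))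
  set q : ℝ := (Nat.card F : ℝ)
  have hq1 : (1 : ℝ) ≤ q := by simp only [q]; exact_mod_cast Nat.card_pos
  have hs : Real.sqrt q ≤ q := Real.sqrt_le_iff.2 ⟨by linarith, by nlinarith⟩
  have h3 : (Z : ℝ) * q ≤ C' * q ^ r := by
    simp only [q]; exact_mod_cast le_trans (Nat.mul_le_mul hZ le_rfl) h2
  push_cast at h1 ⊢
  have h4 : |(Nat.card (Localization.Away f →ₐ[Rk] F) : ℝ) - q ^ r| ≤
      |(Z : ℝ) + Nat.card (Localization.Away f →ₐ[Rk] F) - q ^ r| + Z := by
    have := abs_sub ((Z : ℝ) + Nat.card (Localization.Away f →ₐ[Rk] F) - q ^ r) (Z : ℝ)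
    rw [Nat.abs_cast] at this
    refine le_trans (le_of_eq ?_) this
    congr 1; ring
  have h5 : (Z : ℝ) * Real.sqrt q ≤ Z * q := mul_le_mul_of_nonneg_left hs (Nat.cast_nonneg _)
  nlinarith [mul_le_mul_of_nonneg_right h4 (Real.sqrt_nonneg q)]

/-- A finitely generated domain inside a field of transcendence degree `r` has dimension at most `r + 1`. -/
theorem ringKrullDim_le {k K : Type} [Field k] [CharZero k] [Algebra.IsAlgebraic ℤ k] [Field K] [Algebra k K]
    {r : ℕ} (hr : Algebra.trdeg k K = r) {A : Type} [CommRing A] [IsDomain A] [Algebra.FiniteType ℤ A]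
    (ι : A →+* K) (hι : Function.Injective ι) : ringKrullDim A ≤ (r + 1 : ℕ) := by
  haveI : CharZero K := charZero_of_injective_algebraMap (algebraMap k K).injective
  haveI : CharZero A := ⟨fun a b h => Nat.cast_injective (R := K) (by simpa using congrArg ι h)⟩
  by_contra hlt
  rw [not_le] at hlt
  obtain ⟨n, e, he⟩ := Algebra.FiniteType.iff_quotient_mvPolynomial''.mp ‹Algebra.FiniteType ℤ A›
  obtain ⟨x, hx⟩ := LangWeil25.exists_algebraicIndependent e.toRingHom he (r := r + 1) (by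
    have h := hlt
    generalize ringKrullDim A = D at h ⊢
    induction D using WithBot.recBotCoe with
    | bot => exact absurd h not_lt_bot
    | coe a =>
      have h1 : (((r + 1 : ℕ) : ℕ∞)) < a := WithBot.coe_lt_coe.mp h
      exact WithBot.coe_le_coe.mpr (Order.add_one_le_of_lt h1))
  have h1 := (AlgebraicIndependent.map' hx (f := ι.toIntAlgHom) hι).cardinalMk_le_trdeg
  rw [Cardinal.mk_fin, ← trdeg_add_eq ℤ k, trdeg_eq_zero (R := ℤ) (A := k), zero_add, hr] at h1
  norm_cast at h1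
  omega

end Groth.Agent.ArithLW25
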