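import Groth.Agent.Lib.ArithLW25.DomainZ
import Groth.Agent.Lib.Zeta25.PointBound
import Groth.Agent.Lib.VarDim.Irred

/-!
# Main terms of the point counts of arithmetic schemes
-/

set_option autoImplicit false

universe u

namespace Groth.Agent.ArithLW25

open AlgebraicGeometry CategoryTheory TopologicalSpace Groth.Agent

variable {X : Scheme.{u}}

/-- The points lying in a subset. -/
noncomputable def setCnt (Z : Set X) : Cnt := fun F _ _ =>
  Nat.card {g : Spec (CommRingCat.of (ULift.{u} F)) ⟶ X // g.base (IsLocalRing.closedPoint (ULift.{u} F)) ∈ Z}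

theorem HasModels.congr {cnt g : Cnt} {r : ℕ} {Ks : List NFld} {Ms : List (ℕ × ℕ)} (h : HasModels g r Ks Ms)
    (he : ∀ (F : Type) [Field F] [Finite F], cnt F = g F) : HasModels cnt r Ks Ms :=
  h.of_diff (negligible_zero r) fun F _ _ => ⟨(he F).le, (he F).ge⟩

/-- Main terms in dimension `s` are negligible in dimension `s + 1`. -/
theorem HasModels.negligible {cnt : Cnt} {s : ℕ} {Ks : List NFld} {Ms : List (ℕ × ℕ)} (h : HasModels cnt s Ks Ms) :
    Negligible cnt (s + 1) := by
  obtain ⟨-, C, p₀, hC⟩ := h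
  choose c hc using fun K : NFld => exists_nh_le K
  refine negligible_of_le (C := C + (Ks.map c).sum + (Ms.map fun pm => pm.2).sum) (p₀ := p₀) fun F _ _ => ?_
  have hk : (Ks.map fun K => nh K F).sum ≤ (Ks.map c).sum := List.sum_le_sum fun K _ => (hc K F).2
  have hm : (Ms.map fun pm => mterm pm F).sum ≤ (Ms.map fun pm => pm.2).sum := List.sum_le_sum fun pm _ => mterm_le pm F
  obtain ⟨h1, h2⟩ := hC F
  set Q : ℝ := (Nat.card F : ℝ)
  have hQ1 : 1 ≤ Q := one_le_card F
  have hs : 1 ≤ Real.sqrt Q := Real.one_le_sqrt.2 hQ1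
  suffices h : ((cnt F * (if p₀ ≤ ringChar F then Nat.card F else 1) : ℕ) : ℝ) ≤
      ((C + (Ks.map c).sum + (Ms.map fun pm => pm.2).sum : ℕ) : ℝ) * Q ^ s by
    simp only [Q] at h
    exact_mod_cast h
  have hK' : (((Ks.map fun K => nh K F).sum : ℕ) : ℝ) ≤ ((Ks.map c).sum : ℕ) := by exact_mod_cast hk
  have hM' : (((Ms.map fun pm => mterm pm F).sum : ℕ) : ℝ) ≤ ((Ms.map fun pm => pm.2).sum : ℕ) := by exact_mod_cast hm
  have hQs : (0 : ℝ) ≤ Q ^ s := by positivity
  rw [Nat.cast_add, Nat.cast_add]
  split_ifs with hp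
  · rw [Nat.cast_mul]
    have a := (le_mul_of_one_le_right (abs_nonneg _) hs).trans (h1 hp)
    have b := mul_le_mul_of_nonneg_right hK' hQs
    have c0 : (0 : ℝ) ≤ ((Ms.map fun pm => pm.2).sum : ℕ) * Q ^ s := by positivity
    rw [abs_le] at a
    nlinarith
  · rw [mul_one]
    have a := (le_mul_of_one_le_right (abs_nonneg _) hs).trans h2
    have b := mul_le_mul_of_nonneg_right hM' hQs
    have c0 : (0 : ℝ) ≤ ((Ks.map c).sum : ℕ) * Q ^ s := by positivity
    rw [abs_le] at a
    nlinarith

variable (f : X ⟶ Spec (CommRingCat.of (ULift.{u} ℤ))) [LocallyOfFiniteType f]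

/-- An affine piece of a closed set. -/
structure Piece (Z : Set X) where
  A : Type
  [inst : CommRing A]
  [dom : IsDomain A]
  [ft : Algebra.FiniteType ℤ A]
  U : X.Opens
  η : X
  mem : η ∈ U
  memZ : η ∈ Z
  spec : ∀ x ∈ U, x ∈ Z → η ⤳ x
  card : ∀ (F : Type) [Field F] [Finite F], setCnt (Z ∩ U) F = homCnt A F
  dim : ringKrullDim A ≤ topologicalKrullDim Z
  char : CharZero (X.residueField η) → CharZero A

attribute [instance] Piece.inst Piece.dom Piece.ft

theorem charZero_of_ringHom {R S : Type*} [CommRing R] [CommRing S] [CharZero S] (v : R →+* S) : CharZero R :=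
  ⟨fun a b h => Nat.cast_injective (R := S) (by simpa using congrArg v h)⟩

include f in
theorem exists_piece {Z : Set X} (hZ : IsClosed Z) {U : X.Opens} (hU : IsAffineOpen U) {η : X} (hη : η ∈ U)
    (hηZ : η ∈ Z) (hspec : ∀ x ∈ U, x ∈ Z → η ⤳ x) : Nonempty (Piece Z) := by
  obtain ⟨n, e, he⟩ := Zeta25.exists_surjective_sections f hU
  set ev := (X.evaluation U η hη).hom
  let I := RingHom.ker (ev.comp e)
  haveI : I.IsPrime := RingHom.ker_isPrime _
  let A := MvPolynomial (Fin n) ℤ ⧸ I
  haveI : IsDomain A := Ideal.Quotient.isDomain I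
  haveI : @Algebra.FiniteType ℤ A _ _ (Ring.toIntAlgebra A) :=
    (@Algebra.FiniteType.iff_quotient_mvPolynomial'' ℤ A _ _ (Ring.toIntAlgebra A)).mpr
      ⟨n, @AlgHom.mk ℤ (MvPolynomial (Fin n) ℤ) A _ _ _ _ (Ring.toIntAlgebra A) (Ideal.Quotient.mk I)
        (fun z => by simp), Ideal.Quotient.mk_surjective⟩
  -- the projection
  let π : Γ(X, U) →+* A := RingHom.liftOfSurjective e he
    ⟨Ideal.Quotient.mk I, fun a ha => Ideal.Quotient.eq_zero_iff_mem.2 (by
      show ev (e a) = 0
      rw [RingHom.mem_ker.1 ha, map_zero])⟩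
  have hπe : ∀ a, π (e a) = Ideal.Quotient.mk I a := fun a => RingHom.liftOfSurjective_comp_apply _ _ _ _
  have hπs : Function.Surjective π := fun a => by
    obtain ⟨b, rfl⟩ := Ideal.Quotient.mk_surjective a
    exact ⟨e b, hπe b⟩
  have hπk : ∀ b, π b = 0 ↔ ev b = 0 := fun b => by
    obtain ⟨a, rfl⟩ := he b
    rw [hπe, Ideal.Quotient.eq_zero_iff_mem]
    rfl
  let j : PrimeSpectrum A → X := fun P => hU.fromSpec.base (PrimeSpectrum.comap π P)
  have hjmem : ∀ P, j P ∈ Z ∩ U := fun P => by
    have hU' : j P ∈ (U : Set X) := by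
      have : j P ∈ Set.range hU.fromSpec.base := Set.mem_range_self _
      rwa [hU.range_fromSpec] at this
    refine ⟨?_, hU'⟩
    have hle : hU.primeIdealOf ⟨η, hη⟩ ≤ PrimeSpectrum.comap π P := fun b hb => by
      rw [← VarDim.ker_evaluation hU η hη] at hb
      show π b ∈ P.asIdeal
      rw [(hπk b).2 (RingHom.mem_ker.1 hb)]
      exact zero_mem _
    have hsp : η ⤳ j P := by
      rw [← VarDim.fromSpec_le_iff hU, hU.fromSpec_primeIdealOf] at hle
      exact hle
    exact hsp.mem_closed hZ hηZ
  refine ⟨{ A := A, U := U, η := η, mem := hη, memZ := hηZ, spec := hspec, card := ?_, dim := ?_, char := ?_ }⟩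
  · intro F _ _
    let Θ : (A →+* F) → {g : Spec (CommRingCat.of (ULift.{u} F)) ⟶ X //
        g.base (IsLocalRing.closedPoint (ULift.{u} F)) ∈ Z ∩ U} := fun φ =>
      ⟨Spec.map (CommRingCat.ofHom (ULift.ringEquiv.symm.toRingHom.comp (φ.comp π))) ≫ hU.fromSpec, by
        have h := hjmem (PrimeSpectrum.comap φ (IsLocalRing.closedPoint F))
        convert h using 2
        simp only [j, Scheme.Hom.comp_base, TopCat.coe_comp, Function.comp_apply]
        congr 1
        refine PrimeSpectrum.ext (Ideal.ext fun b => ?_)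
        show (ULift.ringEquiv.symm (φ (π b)) : ULift.{u} F) ∈ IsLocalRing.maximalIdeal (ULift.{u} F) ↔
          φ (π b) ∈ IsLocalRing.maximalIdeal F
        simp only [IsLocalRing.mem_maximalIdeal, mem_nonunits_iff, MulEquiv.isUnit_map]⟩
    refine (Nat.card_congr (Equiv.ofBijective Θ ⟨fun φ ψ h => ?_, fun g => ?_⟩)).symm
    · have h1 := congrArg CommRingCat.Hom.hom (Spec.map_inj.mp ((cancel_mono hU.fromSpec).1 (congrArg Subtype.val h)))
      refine (RingHom.cancel_right hπs).1 (RingHom.ext fun b => ?_)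
      exact ULift.ringEquiv.symm.injective (RingHom.congr_fun h1 b)
    · obtain ⟨g, hgZ, hgU⟩ := g
      have hrange : Set.range g.base ⊆ Set.range hU.fromSpec.base := by
        rw [hU.range_fromSpec]
        rintro _ ⟨z, rfl⟩
        rw [Subsingleton.elim z (IsLocalRing.closedPoint (ULift.{u} F))]
        exact hgU
      let l := IsOpenImmersion.lift hU.fromSpec g hrange
      have hl : l ≫ hU.fromSpec = g := IsOpenImmersion.lift_fac _ _ _
      let ψ : Γ(X, U) →+* F := ULift.ringEquiv.toRingHom.comp (Spec.preimage l).hom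
      have hker : ∀ b, π b = 0 → ψ b = 0 := fun b hb => by
        set x := g.base (IsLocalRing.closedPoint (ULift.{u} F))
        have hsp : η ⤳ x := hspec _ hgU hgZ
        have hxq : x = hU.fromSpec.base (PrimeSpectrum.comap (Spec.preimage l).hom (IsLocalRing.closedPoint (ULift.{u} F))) := by
          have hl' : Spec.map (Spec.preimage l) ≫ hU.fromSpec = g := by rw [Spec.map_preimage, hl]
          conv_lhs => rw [show x = g.base (IsLocalRing.closedPoint (ULift.{u} F)) from rfl, ← hl']
          rfl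
        have hle : hU.primeIdealOf ⟨η, hη⟩ ≤ PrimeSpectrum.comap (Spec.preimage l).hom (IsLocalRing.closedPoint (ULift.{u} F)) := by
          rw [← VarDim.fromSpec_le_iff hU, hU.fromSpec_primeIdealOf]
          exact hxq ▸ hsp
        have hmem : b ∈ (hU.primeIdealOf ⟨η, hη⟩).asIdeal := by
          rw [← VarDim.ker_evaluation hU η hη]
          exact (hπk b).1 hb
        have h2 : (Spec.preimage l).hom b ∈ IsLocalRing.maximalIdeal (ULift.{u} F) := hle hmem
        rw [IsLocalRing.maximalIdeal_eq_bot, Ideal.mem_bot] at h2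
        show (ULift.ringEquiv ((Spec.preimage l).hom b) : F) = 0
        rw [h2, map_zero]
      refine ⟨RingHom.liftOfSurjective π hπs ⟨ψ, fun b hb => hker b (RingHom.mem_ker.1 hb)⟩, Subtype.ext ?_⟩
      refine Eq.trans ?_ hl
      show Spec.map _ ≫ _ = _
      congr 1
      rw [← Spec.map_preimage l]
      congr 1
      ext b
      show RingHom.liftOfSurjective π hπs ⟨ψ, fun b hb => hker b (RingHom.mem_ker.1 hb)⟩ (π b) = _
      rw [RingHom.liftOfSurjective_comp_apply]
      rfl
  · rw [← PrimeSpectrum.topologicalKrullDim_eq_ringKrullDim]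
    have hind : Topology.IsInducing j :=
      hU.fromSpec.isOpenEmbedding.isInducing.comp (PrimeSpectrum.isClosedEmbedding_comap_of_surjective _ π hπs).isInducing
    exact (hind.codRestrict fun P => (hjmem P).1).topologicalKrullDim_le
  · intro h0
    let v : A →+* X.residueField η := RingHom.kerLift (ev.comp e)
    exact charZero_of_ringHom v

variable [QuasiCompact f]

include f in
theorem finite_points_scheme (hr : ∃ r : ℕ, topologicalKrullDim X ≤ r) (F : Type) [Field F] [Finite F] :
    Finite (Spec (CommRingCat.of (ULift.{u} F)) ⟶ X) := by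
  obtain ⟨r, hr⟩ := hr
  obtain ⟨c, p₀, h⟩ := Zeta25.exists_card_hom_le f r hr
  exact (h (ULift.{u} F)).1

include f in
theorem noetherianSpace : NoetherianSpace X := by
  haveI : IsNoetherianRing (CommRingCat.of (ULift.{u} ℤ)) :=
    isNoetherianRing_of_ringEquiv ℤ ULift.ringEquiv.symm
  haveI : IsLocallyNoetherian X := LocallyOfFiniteType.isLocallyNoetherian f
  haveI : CompactSpace X := (HasAffineProperty.iff_of_isAffine (P := @QuasiCompact) (f := f)).mp inferInstance
  haveI : IsNoetherian X := {}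
  infer_instance

include f in
theorem setCnt_split (hr : ∃ r : ℕ, topologicalKrullDim X ≤ r) {Z V : Set X} (F : Type) [Field F] [Finite F] :
    setCnt Z F = setCnt (Z ∩ V) F + setCnt (Z \ V) F := by
  classical
  haveI := finite_points_scheme f hr F
  unfold setCnt
  rw [← Nat.card_sum]
  exact Nat.card_congr
    (((Equiv.sumCompl fun g : {g : Spec (CommRingCat.of (ULift.{u} F)) ⟶ X //
          g.base (IsLocalRing.closedPoint (ULift.{u} F)) ∈ Z} =>
        g.1.base (IsLocalRing.closedPoint (ULift.{u} F)) ∈ V).symm).trans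
      (Equiv.sumCongr
        (Equiv.subtypeSubtypeEquivSubtypeInter (fun g : Spec (CommRingCat.of (ULift.{u} F)) ⟶ X =>
          g.base (IsLocalRing.closedPoint (ULift.{u} F)) ∈ Z)
          fun g => g.base (IsLocalRing.closedPoint (ULift.{u} F)) ∈ V)
        (Equiv.subtypeSubtypeEquivSubtypeInter (fun g : Spec (CommRingCat.of (ULift.{u} F)) ⟶ X =>
          g.base (IsLocalRing.closedPoint (ULift.{u} F)) ∈ Z)
          fun g => g.base (IsLocalRing.closedPoint (ULift.{u} F)) ∉ V)))

theorem dim_subset {Z W : Set X} (h : W ⊆ Z) : topologicalKrullDim W ≤ topologicalKrullDim Z :=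
  (Topology.IsEmbedding.inclusion h).isInducing.topologicalKrullDim_le

theorem setCnt_empty (F : Type) [Field F] [Finite F] : setCnt (∅ : Set X) F = 0 := by
  haveI : IsEmpty {g : Spec (CommRingCat.of (ULift.{u} F)) ⟶ X //
      g.base (IsLocalRing.closedPoint (ULift.{u} F)) ∈ (∅ : Set X)} := ⟨fun g => g.2⟩
  exact Nat.card_of_isEmpty

include f in
/-- Every closed set has main terms. -/
theorem exists_models_closed (hX : ∃ r : ℕ, topologicalKrullDim X ≤ r) (Z : Closeds X) (r : ℕ)
    (hr : topologicalKrullDim (Z : Set X) ≤ r) :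
    ∃ (Ks : List NFld) (Ms : List (ℕ × ℕ)), HasModels (setCnt (Z : Set X)) r Ks Ms := by
  haveI := noetherianSpace f
  induction Z using WellFoundedLT.induction with
  | _ Z ih =>
  rcases (Z : Set X).eq_empty_or_nonempty with hZ | ⟨z, hz⟩
  · exact ⟨[], [], (negligible_zero r).congr fun F _ _ => by rw [hZ]; exact setCnt_empty F⟩
  -- a component
  haveI : NoetherianSpace (Z : Set X) := NoetherianSpace.set _
  have hfin : (irreducibleComponents (Z : Set X)).Finite := NoetherianSpace.finite_irreducibleComponents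
  set C := irreducibleComponent (⟨z, hz⟩ : (Z : Set X)) with hC
  have hCm : C ∈ irreducibleComponents (Z : Set X) := irreducibleComponent_mem_irreducibleComponents _
  set C' : Set X := Subtype.val '' C
  have hC'i : IsIrreducible C' := hCm.1.image _ continuous_subtype_val.continuousOn
  have hC'c : IsClosed C' :=
    Z.isClosed.isClosedEmbedding_subtypeVal.isClosedMap _ (isClosed_of_mem_irreducibleComponents C hCm)
  let O : Set X := ⋃ D ∈ irreducibleComponents (Z : Set X) \ {C}, Subtype.val '' D
  have hOc : IsClosed O := (hfin.subset Set.sdiff_subset).isClosed_biUnion fun D hD =>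
    Z.isClosed.isClosedEmbedding_subtypeVal.isClosedMap _ (isClosed_of_mem_irreducibleComponents D hD.1)
  set η := hC'i.genericPoint
  have hηC : η ∈ C' := by
    have := hC'i.isGenericPoint_genericPoint hC'c
    exact this.mem
  have hηcl : closure ({η} : Set X) = C' := (hC'i.isGenericPoint_genericPoint hC'c).def
  have hηO : η ∉ O := fun h => by
    obtain ⟨D, hD, hηD⟩ := Set.mem_iUnion₂.1 h
    refine hD.2 (subset_antisymm ?_ ?_)
    · refine hCm.2 hD.1.1 fun y hy => ?_
      have : (y : X) ∈ Subtype.val '' D := by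
        have hcl := (Z.isClosed.isClosedEmbedding_subtypeVal.isClosedMap _ (isClosed_of_mem_irreducibleComponents D hD.1))
        exact hcl.closure_subset_iff.2 (Set.singleton_subset_iff.2 hηD) (hηcl ▸ ⟨y, hy, rfl⟩ : (y : X) ∈ closure {η})
      obtain ⟨y', hy', e⟩ := this
      rwa [← Subtype.ext e]
    · intro y hy
      have : (y : X) ∈ Subtype.val '' D := by
        have hcl := (Z.isClosed.isClosedEmbedding_subtypeVal.isClosedMap _ (isClosed_of_mem_irreducibleComponents D hD.1))
        exact hcl.closure_subset_iff.2 (Set.singleton_subset_iff.2 hηD) (hηcl ▸ ⟨y, hy, rfl⟩ : (y : X) ∈ closure {η})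
      obtain ⟨y', hy', e⟩ := this
      rwa [← Subtype.ext e]
  obtain ⟨U, hU, hηU, hUW⟩ := exists_isAffineOpen_mem_and_subset (U := (⟨Oᶜ, hOc.isOpen_compl⟩ : X.Opens)) (x := η) hηO
  have hspec : ∀ x ∈ U, x ∈ (Z : Set X) → η ⤳ x := fun x hxU hxZ => by
    rw [specializes_iff_mem_closure, hηcl]
    by_contra hxC
    refine hUW hxU ?_
    refine Set.mem_biUnion (x := irreducibleComponent (⟨x, hxZ⟩ : (Z : Set X)))
      ⟨irreducibleComponent_mem_irreducibleComponents _, fun h => hxC ?_⟩
      ⟨⟨x, hxZ⟩, mem_irreducibleComponent, rfl⟩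
    exact ⟨⟨x, hxZ⟩, (Set.mem_singleton_iff.1 h) ▸ mem_irreducibleComponent, rfl⟩
  have hηZ : η ∈ (Z : Set X) := by
    obtain ⟨y, -, e⟩ := hηC
    exact e ▸ y.2
  obtain ⟨P⟩ := exists_piece f Z.isClosed hU hηU hηZ hspec
  obtain ⟨K₁, M₁, h₁, -⟩ := exists_models (A := P.A) (P.dim.trans hr)
  let Z' : Closeds X := ⟨(Z : Set X) \ P.U, Z.isClosed.inter P.U.2.isClosed_compl⟩
  have hlt : Z' < Z := by
    refine lt_of_le_of_ne (fun x hx => hx.1) fun h => ?_
    have hh : (Z' : Set X) = (Z : Set X) := congrArg (fun W : Closeds X => (W : Set X)) h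
    have : P.η ∈ (Z' : Set X) := hh.symm ▸ P.memZ
    exact this.2 P.mem
  obtain ⟨K₂, M₂, h₂⟩ := ih Z' hlt ((dim_subset Set.sdiff_subset).trans hr)
  exact ⟨K₁ ++ K₂, M₁ ++ M₂, (h₁.add h₂).congr fun F _ _ => by
    rw [setCnt_split f hX (V := (P.U : Set X)) F, P.card]
    rfl⟩

/-- A chain in a proper closed subset of an irreducible space extends. -/
theorem succ_length_le [IrreducibleSpace X] {Z : Set X} (hZ : IsClosed Z) (hne : Z ≠ Set.univ)
    (l : LTSeries (IrreducibleCloseds Z)) : ((l.length + 1 : ℕ) : WithBot ℕ∞) ≤ topologicalKrullDim X := by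
  let φ : IrreducibleCloseds Z → IrreducibleCloseds X := IrreducibleCloseds.map Subtype.val continuous_subtype_val
  have hmap : ∀ W : IrreducibleCloseds Z, (φ W : Set X) = Subtype.val '' (W : Set Z) := fun W => by
    show closure (Subtype.val '' (W : Set Z)) = _
    exact (hZ.isClosedEmbedding_subtypeVal.isClosedMap _ W.isClosed).closure_eq
  have hmono : StrictMono φ := fun a b h => by
    refine lt_of_le_of_ne (fun x hx => ?_) fun e => h.ne (SetLike.coe_injective ?_)
    · rw [← SetLike.mem_coe, hmap] at hx ⊢; exact Set.image_mono h.le hx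
    · have := congrArg (fun W : IrreducibleCloseds X => (W : Set X)) e
      simp only [hmap] at this
      exact (Set.image_injective.2 Subtype.val_injective) this
  let top : IrreducibleCloseds X := ⟨Set.univ, IrreducibleSpace.isIrreducible_univ X, isClosed_univ⟩
  have hlast : (l.map φ hmono).last < top := by
    rw [LTSeries.last_map]
    refine lt_of_le_of_ne (fun x _ => Set.mem_univ x) fun e => hne (Set.eq_univ_of_forall fun x => ?_)
    have hx : x ∈ (φ l.last : Set X) := by rw [e]; exact Set.mem_univ x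
    rw [hmap] at hx
    obtain ⟨y, -, rfl⟩ := hx
    exact y.2
  exact Order.LTSeries.length_le_krullDim ((l.map φ hmono).snoc top hlast)

theorem dim_closed_lt [IrreducibleSpace X] {Z : Set X} (hZ : IsClosed Z) (hne : Z ≠ Set.univ) {s : ℕ}
    (hs : topologicalKrullDim X ≤ (s + 1 : ℕ)) : topologicalKrullDim Z ≤ s := by
  refine iSup_le fun l => ?_
  have := (succ_length_le hZ hne l).trans hs
  exact_mod_cast (Nat.succ_le_succ_iff.1 (by exact_mod_cast this) : l.length ≤ s)

include f in
/-- An irreducible scheme with generic point in characteristic zero has one main term, a number field. -/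
theorem exists_models_irreducible [IrreducibleSpace X] {r : ℕ} (hr : topologicalKrullDim X = r)
    (h0 : CharZero (X.residueField (genericPoint X))) :
    ∃ Ks : List NFld, Ks.length ≤ 1 ∧ HasModels (setCnt (Set.univ : Set X)) r Ks [] := by
  obtain ⟨U, hU, hηU, -⟩ := exists_isAffineOpen_mem_and_subset (U := (⊤ : X.Opens)) (x := genericPoint X) trivial
  obtain ⟨P⟩ := exists_piece f (Z := Set.univ) isClosed_univ hU hηU (Set.mem_univ _) fun x _ _ => genericPoint_specializes x
  have hP : P.η = genericPoint X := by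
    refine IsGenericPoint.eq ?_ (genericPoint_spec X)
    rw [IsGenericPoint, Set.eq_univ_iff_forall]
    intro x
    -- `η` specializes to the generic point
    have h : P.η ⤳ genericPoint X := P.spec _ ((genericPoint_spec X).mem_open_set_iff P.U.2 |>.2 ⟨P.η, trivial, P.mem⟩) trivial
    exact specializes_iff_mem_closure.1 (h.trans (genericPoint_specializes x))
  have hdim : topologicalKrullDim (Set.univ : Set X) ≤ r :=
    (Topology.IsInducing.subtypeVal.topologicalKrullDim_le).trans hr.le
  haveI : CharZero P.A := P.char (hP ▸ h0)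
  obtain ⟨K₁, M₁, h₁, h₁'⟩ := exists_models (A := P.A) (P.dim.trans hdim)
  obtain ⟨hM, hK⟩ := h₁' inferInstance
  refine ⟨K₁, hK, ?_⟩
  subst hM
  refine h₁.of_diff (h := setCnt ((Set.univ : Set X) \ P.U)) ?_ fun F _ _ => by
    rw [setCnt_split f ⟨r, hr.le⟩ (V := (P.U : Set X)) F, P.card]
    exact ⟨le_rfl, le_add_right (Nat.le_add_right _ _)⟩
  rcases (Set.univ \ (P.U : Set X)).eq_empty_or_nonempty with he | ⟨x, hx⟩
  · exact (negligible_zero r).congr fun F _ _ => by rw [he]; exact setCnt_empty F
  have hZ : IsClosed ((Set.univ : Set X) \ P.U) := isClosed_univ.inter P.U.2.isClosed_compl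
  have hne : (Set.univ : Set X) \ (P.U : Set X) ≠ Set.univ := fun h =>
    (h.symm ▸ Set.mem_univ P.η : P.η ∈ (Set.univ : Set X) \ (P.U : Set X)).2 P.mem
  obtain ⟨s, rfl⟩ : ∃ s, r = s + 1 := by
    refine ⟨r - 1, ?_⟩
    rcases Nat.eq_zero_or_pos r with rfl | h
    · exfalso
      let W : IrreducibleCloseds ((Set.univ : Set X) \ (P.U : Set X) : Set X) :=
        ⟨irreducibleComponent ⟨x, hx⟩, isIrreducible_irreducibleComponent, isClosed_irreducibleComponent⟩
      have h1 := (succ_length_le hZ hne (RelSeries.singleton _ W)).trans hr.le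
      norm_num at h1
    · omega
  obtain ⟨K₂, M₂, h₂⟩ := exists_models_closed f ⟨_, hr.le⟩ ⟨_, hZ⟩ s (dim_closed_lt hZ hne hr.le)
  exact h₂.negligible

end Groth.Agent.ArithLW25
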